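import Mathlib
import Cfsg.Agent.Lib.TL2.Defs

/-! # A model of the extraspecial group `2^(1+4)_+` and its embedding -/

set_option autoImplicit false
set_option linter.unusedSectionVars false

namespace CfsgLib.TL2.D8

open Subgroup CfsgLib.Tech

/-- `t^a w^b b^c b'^d u^e` -/
structure E where
  a : Bool
  b : Bool
  c : Bool
  d : Bool
  e : Bool
  deriving DecidableEq, Fintype

instance (p : E → Prop) [DecidablePred p] : Decidable (∀ x, p x) :=
  decidable_of_iff (∀ a b c d e, p ⟨a, b, c, d, e⟩) ⟨fun h _ => h _ _ _ _ _, fun h _ _ _ _ _ => h _⟩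

instance (p : E → Prop) [DecidablePred p] : Decidable (∃ x, p x) :=
  decidable_of_iff (∃ a b c d e, p ⟨a, b, c, d, e⟩) ⟨fun ⟨_, _, _, _, _, h⟩ => ⟨_, h⟩, fun ⟨_, h⟩ => ⟨_, _, _, _, _, h⟩⟩

instance : Mul E := ⟨fun x y => ⟨x.a ^^ y.a, x.b ^^ y.b, x.c ^^ y.c, x.d ^^ y.d,
  (x.e ^^ y.e) ^^ ((x.b && y.a) ^^ (x.d && y.c))⟩⟩
instance : One E := ⟨⟨false, false, false, false, false⟩⟩
instance : Inv E := ⟨fun x => ⟨x.a, x.b, x.c, x.d, x.e ^^ ((x.b && x.a) ^^ (x.d && x.c))⟩⟩

theorem mul_def (x y : E) : x * y = ⟨x.a ^^ y.a, x.b ^^ y.b, x.c ^^ y.c, x.d ^^ y.d,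
  (x.e ^^ y.e) ^^ ((x.b && y.a) ^^ (x.d && y.c))⟩ := rfl

theorem one_def : (1 : E) = ⟨false, false, false, false, false⟩ := rfl

instance : Group E := Group.ofLeftAxioms (by
  rintro ⟨a, b, c, d, e⟩ ⟨a', b', c', d', e'⟩ ⟨a'', b'', c'', d'', e''⟩
  simp only [mul_def, E.mk.injEq, Bool.xor_assoc, true_and]
  revert b d e a' b' c' d' e' a'' c'' e''
  decide +kernel) (by decide +kernel) (by decide +kernel)

/-- generators -/
def eT : E := ⟨true, false, false, false, false⟩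
/-- generators -/
def eW : E := ⟨false, true, false, false, false⟩
/-- generators -/
def eB : E := ⟨false, false, true, false, false⟩
/-- generators -/
def eC : E := ⟨false, false, false, true, false⟩
/-- generators -/
def eU : E := ⟨false, false, false, false, true⟩

/-- the class modulo the centre -/
def κ (x : E) : E := ⟨x.a, x.b, x.c, x.d, false⟩

theorem κ_iff : ∀ {x y : E}, κ x = κ y ↔ x = y ∨ x = y * eU := by decide +kernel

theorem κ_mul : ∀ x y : E, κ (x * y) = κ (κ x * κ y) := by decide +kernel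

theorem κ_conj : ∀ g x : E, κ (g * x * g⁻¹) = κ x := by decide +kernel

theorem dec : ∀ x : E, x = cond x.a eT 1 * (cond x.b eW 1 * (cond x.c eB 1 * (cond x.d eC 1 * cond x.e eU 1))) := by
  decide +kernel

theorem map_U (L : MulAut E) : L eU = eU := by
  have : ∀ x y : E, x * y * x⁻¹ * y⁻¹ = 1 ∨ x * y * x⁻¹ * y⁻¹ = eU := by decide +kernel
  have e : L eU = L eT * L eW * (L eT)⁻¹ * (L eW)⁻¹ := by
    rw [← map_inv, ← map_inv, ← map_mul, ← map_mul, ← map_mul]; rfl
  exact e.trans ((this _ _).resolve_left fun h => absurd ((map_eq_one_iff L L.injective).1 (e.trans h)) (by decide))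

theorem κ_congr (L : MulAut E) {x y : E} (h : κ x = κ y) : κ (L x) = κ (L y) := by
  rcases κ_iff.1 h with rfl | rfl
  · rfl
  · rw [map_mul, map_U]; exact κ_iff.2 (.inr rfl)

/-- the induced linear map -/
def lin (p q r s x : E) : E := κ (cond x.a p 1 * (cond x.b q 1 * (cond x.c r 1 * cond x.d s 1)))

theorem κ_map (L : MulAut E) (x : E) : κ (L x) = lin (κ (L eT)) (κ (L eW)) (κ (L eB)) (κ (L eC)) x := by
  have k : ∀ (p : Bool) (g : E), L (cond p g 1) = cond p (L g) 1 := fun p g => by cases p <;> simp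
  conv_lhs => rw [dec x]
  simp only [map_mul, k, map_U]
  generalize L eT = p, L eW = q, L eB = r, L eC = s
  rcases x with ⟨_ | _, _ | _, _ | _, _ | _, _ | _⟩ <;> simp [lin, κ, mul_def, eU, one_def]

theorem two_cases (L : MulAut E) (hT : L eT = eT * eB) (hB : L eB = eB) :
    (κ (L eW) = eW ∧ κ (L eC) = κ (eW * eC)) ∨ (κ (L eW) = κ (eW * eB) ∧ κ (L eC) = κ (eT * eW * eB * eC)) := by
  have : ∀ y v : E, y * y = 1 → v * v = 1 → y * (eT * eB) = eT * eB * y * eU → v * eB = eB * v * eU →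
      eT * eB * v = v * (eT * eB) → y * eB = eB * y → y * v = v * y →
      (κ y = eW ∧ κ v = κ (eW * eC)) ∨ (κ y = κ (eW * eB) ∧ κ v = κ (eT * eW * eB * eC)) := by decide +kernel
  refine this _ _ ?_ ?_ ?_ ?_ ?_ ?_ ?_
  · rw [← map_mul, map_eq_one_iff L L.injective]; rfl
  · rw [← map_mul, map_eq_one_iff L L.injective]; rfl
  · rw [← hT, ← map_U L, ← map_mul, ← map_mul, ← map_mul]; rfl
  · rw [← hB, ← map_U L, ← map_mul, ← map_mul, ← map_mul]; rfl
  · rw [← hT, ← map_mul, ← map_mul]; rfl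
  · rw [← hB, ← map_mul, ← map_mul]; rfl
  · rw [← map_mul, ← map_mul]; rfl

variable {G : Type*} [Group G] [Finite G]

/-- the configuration -/
structure Cfg (t w b c u : G) (D T : Subgroup G) : Prop where
  cs : Cs t D T
  ww : w * w = 1
  bb : b * b = 1
  cc : c * c = 1
  uu : u * u = 1
  u1 : u ≠ 1
  wt : w * t = t * (w * u)
  cb : c * b = b * (c * u)
  ut : u * t = t * u
  uw : u * w = w * u
  ub : u * b = b * u
  uc : u * c = c * u
  bt : b * t = t * b
  bw : b * w = w * b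
  ct : c * t = t * c
  cw : c * w = w * c
  hD : D = closure {b, c}

/-- the configuration in coordinates -/
structure Mo (φ : E →* G) (D T : Subgroup G) : Prop where
  cs : Cs (φ eT) D T
  inj : Function.Injective φ
  memD : ∀ g, g ∈ D ↔ ∃ x, x.a = false ∧ x.b = false ∧ φ x = g

/-- the element with given coordinates -/
def el (t w b c u : G) (x : E) : G := cond x.a t 1 * (cond x.b w 1 * (cond x.c b 1 * (cond x.d c 1 * (cond x.e u 1 * 1))))

namespace Cfg

variable {t w b c u : G} {D T : Subgroup G} (h : Cfg t w b c u D T)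
include h

theorem el_mul (x y : E) : el t w b c u (x * y) = el t w b c u x * el t w b c u y := by
  have a : ∀ {p q r : G}, p * q = r → ∀ z, p * (q * z) = r * z := fun e z => by rw [← e, mul_assoc]
  have k : ∀ y, el t w b c u (eT * y) = t * el t w b c u y ∧ el t w b c u (eW * y) = w * el t w b c u y ∧
      el t w b c u (eB * y) = b * el t w b c u y ∧ el t w b c u (eC * y) = c * el t w b c u y ∧
      el t w b c u (eU * y) = u * el t w b c u y := by
    rintro ⟨_ | _, _ | _, _ | _, _ | _, _ | _⟩ <;>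
      simp [-mul_one, el, mul_def, eT, eW, eB, eC, eU, mul_assoc, a h.cs.sq, a h.ww, a h.bb, a h.cc, a h.uu, a h.wt,
        a h.cb, a h.ut, a h.uw, a h.ub, a h.uc, a h.bt, a h.bw, a h.ct, a h.cw]
  have k' : ∀ {g : E} {z : G}, (∀ y, el t w b c u (g * y) = z * el t w b c u y) → ∀ (p : Bool) y,
      el t w b c u (cond p g 1 * y) = cond p z 1 * el t w b c u y := fun e p y => by cases p <;> simp [e]
  conv_lhs => rw [dec x]
  simp only [mul_assoc]
  rw [k' fun y => (k y).1, k' fun y => (k y).2.1, k' fun y => (k y).2.2.1, k' fun y => (k y).2.2.2.1,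
    k' fun y => (k y).2.2.2.2]
  simp only [el, mul_assoc, mul_one]

theorem exists_mo : ∃ φ : E →* G, Mo φ D T ∧ φ eT = t ∧ φ eB = b ∧ φ eC = c ∧ φ eU = u := by
  obtain ⟨φ, hφ⟩ : ∃ φ : E →* G, ∀ x, φ x = el t w b c u x := ⟨MonoidHom.mk' (el t w b c u) h.el_mul, fun _ => rfl⟩
  have e1 : φ eT = t := by simp [hφ, el, eT]
  have e2 : φ eB = b := by simp [hφ, el, eB]
  have e3 : φ eC = c := by simp [hφ, el, eC]
  have e4 : φ eU = u := by simp [hφ, el, eU]
  refine ⟨φ, ⟨e1 ▸ h.cs, (injective_iff_map_eq_one _).2 fun x hx => ?_, fun g => ?_⟩, e1, e2, e3, e4⟩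
  · rcases (by decide +kernel : ∀ x : E, x = 1 ∨ x = eU ∨ ∃ y, x * y * x⁻¹ * y⁻¹ = eU) x with e | rfl | ⟨y, e⟩
    · exact e
    · exact absurd (e4.symm.trans hx) h.u1
    · exact absurd (by rw [← e4, ← e]; simp [hx]) h.u1
  let D0 : Subgroup E :=
    { carrier := {x | x.a = false ∧ x.b = false}
      mul_mem' := fun {x y} hx hy => by simp [mul_def, hx.1, hx.2, hy.1, hy.2]
      one_mem' := ⟨rfl, rfl⟩
      inv_mem' := fun hx => hx }
  have : D0 = closure {eB, eC} := le_antisymm (fun x hx => by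
    have hb : eB ∈ closure {eB, eC} := subset_closure (by simp)
    have hc : eC ∈ closure {eB, eC} := subset_closure (by simp)
    have hu : eU ∈ closure {eB, eC} := mul_mem (mul_mem hb hc) (mul_mem hb hc)
    rw [dec x, hx.1, hx.2]
    refine mul_mem (one_mem _) (mul_mem (one_mem _) (mul_mem ?_ (mul_mem ?_ ?_)))
    · cases x.c; exacts [one_mem _, hb]
    · cases x.d; exacts [one_mem _, hc]
    · cases x.e; exacts [one_mem _, hu]) ((closure_le _).2 (by rintro _ (rfl | rfl) <;> exact ⟨rfl, rfl⟩))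
  rw [h.hD, ← e2, ← e3, ← Set.image_pair, ← MonoidHom.map_closure, ← this]
  exact ⟨fun ⟨x, hx, e⟩ => ⟨x, hx.1, hx.2, e⟩, fun ⟨x, h1, h2, e⟩ => ⟨x, ⟨h1, h2⟩, e⟩⟩

end Cfg

/-- the automorphism exchanging `b` and `b'` -/
def sw : MulAut E where
  toFun x := ⟨x.a, x.b, x.d, x.c, x.e ^^ (x.c && x.d)⟩
  invFun x := ⟨x.a, x.b, x.d, x.c, x.e ^^ (x.c && x.d)⟩
  left_inv := by unfold Function.LeftInverse; decide +kernel
  right_inv := by unfold Function.RightInverse Function.LeftInverse; decide +kernel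
  map_mul' := by decide +kernel

namespace Mo

variable {φ : E →* G} {D T : Subgroup G} (h : Mo φ D T)
include h

theorem symm : Mo (φ.comp sw.toMonoidHom) D T :=
  ⟨h.cs, h.inj.comp sw.injective, fun g => (h.memD g).trans
    ⟨fun ⟨x, h1, h2, e⟩ => ⟨sw.symm x, h1, h2, by simpa using e⟩, fun ⟨x, h1, h2, e⟩ => ⟨sw x, h1, h2, e⟩⟩⟩

omit h in
theorem range_sw : (φ.comp sw.toMonoidHom).range = φ.range := by
  rw [MonoidHom.range_comp, MonoidHom.range_eq_top.2 sw.surjective, ← MonoidHom.range_eq_map]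

theorem φ_memD {x : E} : φ x ∈ D ↔ x.a = false ∧ x.b = false :=
  (h.memD _).trans ⟨fun ⟨_, h1, h2, e⟩ => h.inj e ▸ ⟨h1, h2⟩, fun hx => ⟨x, hx.1, hx.2, rfl⟩⟩

theorem φ_memT {x : E} : φ x ∈ T ↔ x.b = false := by
  rw [h.cs.mem, ← map_mul, h.φ_memD, h.φ_memD]
  revert x; decide +kernel

theorem T_le : T ≤ φ.range := fun g hg => ((h.cs.mem g).1 hg).elim
  (fun hg => let ⟨x, _, _, e⟩ := (h.memD _).1 hg; ⟨x, e⟩)
  fun hg => let ⟨x, _, _, e⟩ := (h.memD _).1 hg; ⟨eT * x, by rw [map_mul, e, h.cs.tt]⟩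

omit h in
theorem pg : IsPGroup 2 φ.range :=
  (IsPGroup.of_card (n := 5) (by rw [Nat.card_eq_fintype_card]; rfl)).of_surjective _ φ.rangeRestrict_surjective

theorem exists_aut {n : G} (hn : n ∈ normalizer (φ.range : Set G)) :
    ∃ L : MulAut E, ∀ x, φ (L x) = n * φ x * n⁻¹ :=
  ⟨((MonoidHom.ofInjective h.inj).trans (φ.range.normalizerMonoidHom ⟨n, hn⟩)).trans
    (MonoidHom.ofInjective h.inj).symm, fun x => by
      rw [MulEquiv.trans_apply, MonoidHom.apply_ofInjective_symm]; rfl⟩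

/-- the elements of a 2-group that map `t` to `t` or `t u` -/
theorem memX {R : Subgroup G} (hR : IsPGroup 2 R) (hX : φ.range ≤ R) {z : G} (hz : z ∈ R) {x : E}
    (e : φ x = z * φ eT * z⁻¹) (hx : κ x = κ eT) : z ∈ φ.range := by
  rcases κ_iff.1 hx with rfl | rfl
  · exact h.T_le (h.cs.mem_of_pgroup hR (h.T_le.trans hX) hz (mul_inv_eq_iff_eq_mul.1 e.symm))
  · have hw : φ eW ∈ φ.range := ⟨eW, rfl⟩
    refine (mul_mem_cancel_left hw).1 (h.T_le (h.cs.mem_of_pgroup hR (h.T_le.trans hX) (mul_mem (hX hw) hz)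
      (mul_inv_eq_iff_eq_mul.1 ?_)))
    rw [show φ eW * z * φ eT * (φ eW * z)⁻¹ = φ eW * (z * φ eT * z⁻¹) * (φ eW)⁻¹ by group, ← e, ← map_inv, ← map_mul,
      ← map_mul]
    rfl

end Mo

end CfsgLib.TL2.D8
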