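import Mathlib
import Cfsg.Agent.Lib.TL2.Dih2A
import Cfsg.Agent.Lib.TwoGrp.Pres

/-! # The case `D = D8` in coordinates -/

set_option autoImplicit false
set_option linter.unusedSectionVars false

namespace CfsgLib.TL2.D8

open Subgroup CfsgLib.Tech

variable {G : Type*} [Group G] [Finite G]

/-- the four-group `⟨u, b⟩` -/
def U0 : Subgroup E where
  carrier := {x | x.a = false ∧ x.b = false ∧ x.d = false}
  mul_mem' := fun {x y} hx hy => by simp [mul_def, hx.1, hx.2.1, hx.2.2, hy.1, hy.2.1, hy.2.2]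
  one_mem' := ⟨rfl, rfl, rfl⟩
  inv_mem' := fun hx => hx

theorem mem_U0 {x : E} : x ∈ U0 ↔ x.a = false ∧ x.b = false ∧ x.d = false := Iff.rfl

instance : DecidablePred (· ∈ U0) := fun _ => decidable_of_iff _ mem_U0.symm

/-- `L` is induced by `n` -/
def Ind (φ : E →* G) (n : G) (L : MulAut E) : Prop := ∀ x, φ (L x) = n * φ x * n⁻¹

theorem Ind.mul {φ : E →* G} {n m : G} {L K : MulAut E} (h : Ind φ n L) (k : Ind φ m K) : Ind φ (n * m) (L * K) :=
  fun x => by rw [MulAut.mul_apply, h, k]; group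

theorem Ind.inv {φ : E →* G} {n : G} {L : MulAut E} (h : Ind φ n L) : Ind φ n⁻¹ L⁻¹ := fun x => by
  rw [← L.apply_symm_apply x, h, MulAut.inv_def, L.symm_apply_apply]; group

theorem Ind.conj (φ : E →* G) (g : E) : Ind φ (φ g) (MulAut.conj g) := fun x => by simp

theorem Ind.pow {φ : E →* G} {n : G} {L : MulAut E} (h : Ind φ n L) : ∀ k : ℕ, Ind φ (n ^ k) (L ^ k)
  | 0 => fun x => by simp
  | k + 1 => by rw [pow_succ, pow_succ]; exact (h.pow k).mul h

theorem Ind.norm {φ : E →* G} {n : G} {L : MulAut E} (h : Ind φ n L) : n ∈ normalizer (φ.range : Set G) :=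
  mem_normalizer_of_forall (by rintro _ ⟨x, rfl⟩; exact ⟨_, h x⟩)

theorem Ind.isConj {φ : E →* G} {n : G} {L : MulAut E} (h : Ind φ n L) (x : E) : IsConj (φ x) (φ (L x)) :=
  h x ▸ isConj_cj n _

namespace Mo

variable {φ : E →* G} {D T : Subgroup G} (h : Mo φ D T)
include h

theorem notD {x : E} (ha : x.a = false) (hb : x.b = false) : ¬ IsConj (φ eT) (φ x) :=
  h.cs.hD _ (h.φ_memD.2 ⟨ha, hb⟩)

theorem invT {x : E} (ha : x.a = true) (hb : x.b = false) (h2 : x * x = 1) : IsConj (φ eT) (φ x) := by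
  obtain ⟨h3, h4, h5⟩ := (by decide +kernel : ∀ x : E, x.a = true → x.b = false → x * x = 1 →
    ((eT * x).a = false ∧ (eT * x).b = false) ∧ eT * x * (eT * x) = 1 ∧ eT * (eT * x) = x) x ha hb h2
  have := h.cs.hT _ (h.φ_memD.2 h3) (by rw [← map_mul, h4, map_one])
  rwa [← map_mul, h5] at this

theorem C_sq {x : E} (hx : IsConj (φ eT) (φ x)) : x * x = 1 := h.inj (by rw [map_mul, h.cs.sq' hx, map_one])

theorem Cκ {x y : E} (e : κ x = κ y) (hx : IsConj (φ eT) (φ x)) : IsConj (φ eT) (φ y) := by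
  rcases (by decide +kernel : ∀ x y : E, κ x = κ y → (x.a = false ∧ x.b = false) ∨ ∃ g, g * x * g⁻¹ = y) x y e with
    k | ⟨g, rfl⟩
  · exact absurd hx (h.notD k.1 k.2)
  · exact hx.trans ((Ind.conj φ g).isConj x)

theorem mulT {x v : E} (hx : IsConj (φ eT) (φ x)) (hv : v * x = x * v ∧ v * v = 1 ∧ v.a = false ∧ v.b = false) :
    IsConj (φ eT) (φ (x * v)) := by
  rw [map_mul]
  exact h.cs.mulT hx (by rw [Commute, SemiconjBy, ← map_mul, hv.1, map_mul]) (by rw [← map_mul, hv.2.1, map_one])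
    (h.notD hv.2.2.1 hv.2.2.2)

theorem mem_UU {x : E} : φ x ∈ U0.map φ ↔ x ∈ U0 := mem_map_iff_mem h.inj

theorem fixU {R : Subgroup G} (hR : IsPGroup 2 R) (hX : φ.range ≤ R) (hn : R ≤ normalizer (U0.map φ : Set G))
    {z : G} (hz : z ∈ R) : z * φ eU * z⁻¹ = φ eU ∧ ∃ x, κ x = κ eB ∧ φ x = z * φ eB * z⁻¹ := by
  obtain ⟨_, ⟨x, hx, rfl⟩, ho, hc⟩ := exists_mem_center_of_normalized hR ((map_le_range φ U0).trans hX) hn fun e =>
    absurd (h.inj ((mem_bot.1 (e.le (mem_map_of_mem φ (show eU ∈ U0 by decide)))).trans φ.map_one.symm)) (by decide)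
  obtain rfl : x = eU := (by decide +kernel : ∀ x ∈ U0, eC * x = x * eC → x ≠ 1 → x = eU) x hx
    (h.inj (by rw [map_mul, map_mul, hc _ (hX ⟨eC, rfl⟩)])) fun e => ne_one_of_orderOf_two ho (by rw [e, map_one])
  have e1 : z * φ eU * z⁻¹ = φ eU := mul_inv_eq_iff_eq_mul.2 (hc z hz)
  obtain ⟨y, hy, e⟩ := conj_mem_of_mem_normalizer (hn hz) (mem_map_of_mem φ (show eB ∈ U0 by decide))
  refine ⟨e1, y, (by decide +kernel : ∀ y ∈ U0, y ≠ 1 → y ≠ eU → κ y = κ eB) y hy ?_ ?_, e⟩ <;> rintro rfl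
  · exact absurd (h.inj ((conj_eq_one_iff.1 (e.symm.trans φ.map_one)).trans φ.map_one.symm)) (by decide)
  · exact absurd (h.inj ((MulAut.conj z).injective (e1.trans e))) (by decide)

theorem X_le : φ.range ≤ Nt (φ eT) (U0.map φ) := by
  rintro _ ⟨g, rfl⟩
  refine ⟨mem_normalizer_of_forall ?_, ?_⟩
  · rintro _ ⟨x, hx, rfl⟩
    rw [← map_inv, ← map_mul, ← map_mul, h.mem_UU]
    exact (by decide +kernel : ∀ g, ∀ x ∈ U0, g * x * g⁻¹ ∈ U0) g x hx
  · simp only [← map_inv, ← map_mul, h.mem_UU]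
    exact (by decide +kernel : ∀ g, eT⁻¹ * (g * eT * g⁻¹) ∈ U0) g

/-- the data of the overgroup of index two -/
structure Up (φ : E →* G) (R : Subgroup G) (y : G) (L : MulAut E) : Prop where
  syl : IsSylowIn 2 R (Nt (φ eT) (U0.map φ))
  le : φ.range ≤ R
  mem : y ∈ R
  two : ∀ z ∈ R, z ∈ φ.range ∨ y⁻¹ * z ∈ φ.range
  ind : Ind φ y L
  hT : L eT = eT * eB
  hB : L eB = eB
  sq : ∃ e ∈ U0, φ e = y * y

theorem exists_up (tr : ∃ y, Commute y (φ eU) ∧ Commute y (φ eB) ∧ y * φ eT * y⁻¹ = φ eT * φ eB) :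
    ∃ R y L, Up φ R y L := by
  obtain ⟨y, yu, yb, yt⟩ := tr
  have hy : y ∈ Nt (φ eT) (U0.map φ) := by
    refine ⟨mem_normalizer_of_forall ?_, by rw [yt, inv_mul_cancel_left, h.mem_UU]; decide⟩
    rintro _ ⟨x, hx, rfl⟩
    have : Commute y (φ x) := by
      rcases (by decide +kernel : ∀ x ∈ U0, x = 1 ∨ x = eU ∨ x = eB ∨ x = eB * eU) x hx with rfl | rfl | rfl | rfl
      exacts [φ.map_one ▸ Commute.one_right y, yu, yb, φ.map_mul _ _ ▸ yb.mul_right yu]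
    rw [this.eq, mul_inv_cancel_right]; exact mem_map_of_mem φ hx
  obtain ⟨R, hR, hX⟩ := exists_isSylowIn_ge pg h.X_le
  have hn : R ≤ normalizer (U0.map φ : Set G) := fun z hz => (hR.le hz).1
  have ot : ∀ z ∈ Nt (φ eT) (U0.map φ), ∃ x ∈ U0, φ (eT * x) = z * φ eT * z⁻¹ := fun z hz =>
    let ⟨x, hx, e⟩ := hz.2; ⟨x, hx, by rw [map_mul, e, mul_inv_cancel_left]⟩
  have h4 : {w | ∃ z ∈ Nt (φ eT) (U0.map φ), z * φ eT * z⁻¹ = w}.ncard = 2 ^ 2 := by
    have : {w | ∃ z ∈ Nt (φ eT) (U0.map φ), z * φ eT * z⁻¹ = w} = (fun x => φ (eT * x)) '' U0 := by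
      refine Set.Subset.antisymm (fun _ ⟨z, hz, e⟩ => let ⟨x, hx, e'⟩ := ot z hz; ⟨x, hx, e'.trans e⟩) ?_
      rintro _ ⟨x, hx, rfl⟩
      obtain ⟨g, e | e⟩ := (by decide +kernel : ∀ x ∈ U0, ∃ g, g * eT * g⁻¹ = eT * x ∨ g * (eT * eB) * g⁻¹ = eT * x) x hx
      · exact ⟨φ g, h.X_le ⟨g, rfl⟩, by simp [← e]⟩
      · exact ⟨φ g * y, mul_mem (h.X_le ⟨g, rfl⟩) hy, by simp only [← e, map_mul, map_inv, ← yt]; group⟩
    rw [this, Set.ncard_image_of_injective (f := fun x => φ (eT * x)) _ (h.inj.comp (mul_right_injective eT)), ← Nat.card_coe_set_eq,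
      SetLike.coe_sort_coe, Nat.card_eq_fintype_card]
    decide +kernel
  obtain ⟨y0, hy0, e0⟩ := reach hR h4 hy
  obtain ⟨y, hy, yt, yb⟩ : ∃ y ∈ R, y * φ eT * y⁻¹ = φ (eT * eB) ∧ y * φ eB * y⁻¹ = φ eB := by
    rw [yt, ← map_mul] at e0
    obtain ⟨eu, x, hx, e⟩ := h.fixU hR.pgroup hX hn hy0
    rcases κ_iff.1 hx with rfl | rfl
    · exact ⟨y0, hy0, e0, e.symm⟩
    · have k : ∀ x, y0 * φ eC * φ x * (y0 * φ eC)⁻¹ = y0 * φ (eC * x * eC⁻¹) * y0⁻¹ := fun x => by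
        simp only [map_mul, map_inv]; group
      refine ⟨y0 * φ eC, mul_mem hy0 (hX ⟨eC, rfl⟩), (k _).trans e0, ?_⟩
      rw [k, show eC * eB * eC⁻¹ = eB * eU from rfl, map_mul, ← conj_mul, ← e, eu, ← map_mul]; rfl
  have yu := (h.fixU hR.pgroup hX hn hy).1
  have k : ∀ x ∈ U0, φ (eT * eB * x) = y * φ (eT * x) * y⁻¹ := fun x hx => by
    rw [map_mul _ _ x, map_mul _ _ x, ← conj_mul, yt]
    congr 1
    rcases (by decide +kernel : ∀ x ∈ U0, x = 1 ∨ x = eU ∨ x = eB ∨ x = eB * eU) x hx with rfl | rfl | rfl | rfl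
    · simp
    · exact yu.symm
    · exact yb.symm
    · rw [map_mul, ← conj_mul, yu, yb]
  have hn : y ∈ normalizer (φ.range : Set G) := mem_normalizer_of_forall (by
    rintro _ ⟨g, rfl⟩
    obtain ⟨x, hx, e1, e2⟩ := (by decide +kernel : ∀ g, ∃ x ∈ U0, eT * x = g * (eT * eB) * g⁻¹ ∧
      κ (eT * eB * x) = κ eT) g
    refine h.memX hR.pgroup hX (mul_mem (mul_mem hy (hX ⟨g, rfl⟩)) (inv_mem hy)) ?_ e2
    rw [k x hx, e1, map_mul, map_mul, map_inv, show φ eT = φ (eT * eB * eB) from rfl, k eB (by decide)]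
    group)
  obtain ⟨L, hL⟩ := h.exists_aut hn
  have c : ∀ {x}, y * (y * φ x * y⁻¹) * y⁻¹ = φ x → Commute (y * y) (φ x) := fun e =>
    mul_inv_eq_iff_eq_mul.1 (Eq.trans (by group) e)
  refine ⟨R, y, L, hR, hX, hy, fun z hz => ?_, hL, h.inj ((hL _).trans yt), h.inj ((hL _).trans yb), ?_⟩
  · obtain ⟨x, hx, e⟩ := ot z (hR.le hz)
    rcases (by decide +kernel : ∀ x ∈ U0, κ (eT * x) = κ eT ∨ ∃ x' ∈ U0, eT * eB * x' = eT * x ∧ κ (eT * x') = κ eT)
      x hx with e1 | ⟨x', hx', e1, e2⟩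
    · exact .inl (h.memX hR.pgroup hX hz e e1)
    · refine .inr (h.memX hR.pgroup hX (mul_mem (inv_mem hy) hz) ?_ e2)
      rw [← e1, k x' hx'] at e
      calc _ = y⁻¹ * (y * φ (eT * x') * y⁻¹) * y := by group
        _ = _ := by rw [e]; group
  · have h1 := h.cs.mem_of_pgroup hR.pgroup (h.T_le.trans hX) (mul_mem hy hy) (c (by rw [yt, ← k eB (by decide)]; rfl))
    obtain ⟨x, e⟩ := h.T_le h1
    have h2 := c (x := eB) (by rw [yb, yb])
    rw [← e] at h1 h2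
    rcases (by decide +kernel : ∀ x : E, x.b = false → x * eB = eB * x → x ∈ U0 ∨ (x.a = true ∧ x * x = 1)) x
      (h.φ_memT.1 h1) (h.inj (by rw [map_mul, map_mul, h2.eq])) with k | k
    · exact ⟨x, k, e⟩
    · exact absurd (e ▸ h.invT k.1 (h.φ_memT.1 h1) k.2) (h.cs.not_sq y)

theorem hfix0 {n : G} {L : MulAut E} (hL : Ind φ n L) (e : L eT = eT) : κ (L eB) = κ eB := by
  have cb : ∀ {x : E}, x.b = false ↔ x * eT = eT * x := by decide +kernel
  have hb : ∀ x : E, x.b = false → (L x).b = false := fun x hx => cb.2 (by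
    rw [← e, ← map_mul, ← map_mul, cb.1 hx])
  obtain ⟨_, ⟨k, rfl⟩, hk⟩ := h.cs.odd_pow_mem (x := n) (mul_inv_eq_iff_eq_mul.1 (by rw [← hL, e]))
    (mem_normalizer_of_forall fun g hg => by
      obtain ⟨x, rfl⟩ := h.T_le hg
      rw [← hL, h.φ_memT]; exact hb x (h.φ_memT.1 hg))
  obtain ⟨g, eg⟩ := h.T_le hk
  have h1 : κ ((L ^ (2 * k + 1)) eB) = κ eB := by
    rw [← κ_conj g eB]; exact congrArg κ (h.inj (by rw [hL.pow, ← eg]; simp))
  have h2 : ∀ x : E, x.a = false ∧ x.b = false ∧ x * x = 1 ∧ x ≠ 1 ∧ x ≠ eU → κ (L x) = κ eB ∨ κ (L x) = κ eC :=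
    fun x ⟨ha, hx, h2, h3, h4⟩ => by
      have h5 : L x * L x = 1 := by rw [← map_mul, h2, map_one]
      refine ((by decide +kernel : ∀ x : E, x.b = false → x * x = 1 → x ≠ 1 → x ≠ eU →
        x.a = true ∨ κ x = κ eB ∨ κ x = κ eC) _ (hb x hx) h5 (mt (map_eq_one_iff L L.injective).1 h3)
        fun e => h4 (L.injective (e.trans (map_U L).symm))).resolve_left fun k => ?_
      exact h.notD ha hx ((h.invT k (hb x hx) h5).trans (hL.isConj x).symm)
  refine (h2 eB (by decide)).resolve_right fun h3 => ?_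
  have h4 := (h2 eC (by decide)).resolve_right fun h4 => by
    have := κ_congr L⁻¹ (h3.trans h4.symm)
    simp only [MulAut.inv_apply_self] at this
    exact absurd this (by decide)
  have h5 : ∀ j : ℕ, κ ((L ^ (2 * j + 1)) eB) = κ eC := fun j => by
    induction j with
    | zero => simpa using h3
    | succ j ih =>
      rw [show 2 * (j + 1) + 1 = 2 * j + 1 + 1 + 1 by ring, pow_succ', pow_succ', MulAut.mul_apply, MulAut.mul_apply]
      exact (κ_congr L ((κ_congr L ih).trans h4)).trans h3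
  exact absurd (h1.symm.trans (h5 k)) (by decide)

theorem hfix {n : G} {L : MulAut E} (hL : Ind φ n L) (e : κ (L eT) = κ eT) : κ (L eB) = κ eB := by
  rcases κ_iff.1 e with e | e
  · exact h.hfix0 hL e
  · exact (κ_conj eW _).symm.trans (h.hfix0 ((Ind.conj φ eW).mul hL) (by rw [MulAut.mul_apply, e]; rfl))

variable {R : Subgroup G} {y : G} {L : MulAut E} (p : Up φ R y L)
include p

theorem out {z : G} (hz : z ∈ R) (hn : z ∉ φ.range) : ∃ g, z = y * φ g ∧ Ind φ z (L * MulAut.conj g) := by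
  obtain ⟨g, e⟩ := (p.two z hz).resolve_left hn
  obtain rfl : z = y * φ g := by rw [e, mul_inv_cancel_left]
  exact ⟨g, rfl, p.ind.mul (Ind.conj φ g)⟩

theorem sq_out (a b : E) : ∃ e ∈ U0, y * φ a * (y * φ b) = φ (L a * e * b) := by
  obtain ⟨e, he, k⟩ := p.sq
  exact ⟨e, he, by rw [map_mul, map_mul, p.ind, k]; group⟩

theorem mul_out {a b : G} (ha : a ∈ R) (hb : b ∈ R) (ha' : a ∉ φ.range) (hb' : b ∉ φ.range) : a * b ∈ φ.range := by
  obtain ⟨a, rfl, -⟩ := h.out p ha ha'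
  obtain ⟨b, rfl, -⟩ := h.out p hb hb'
  obtain ⟨e, -, k⟩ := h.sq_out p a b
  exact ⟨_, k.symm⟩

theorem y_not : y ∉ φ.range := fun ⟨g, e⟩ => by
  have := κ_conj g eT
  rw [h.inj (show φ (g * eT * g⁻¹) = φ (L eT) by rw [p.ind, ← e]; simp), p.hT] at this
  exact absurd this (by decide)

theorem finish (hG : _root_.commutator G = ⊤) (hR : IsSylowIn 2 R ⊤) (χ : E → Bool)
    (h0 : χ eT = true ∧ (∀ x ∈ U0, χ x = false) ∧ ∀ x y, χ (x * y) = (χ x ^^ χ y))
    (h2 : ∀ x, χ (L x) = χ x) (h3 : ∀ x, κ (L x) = κ x → χ x = false)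
    (h4 : ∀ x, IsConj (φ eT) (φ x) → χ x = true) : False := by
  obtain ⟨h0, hU, h1⟩ := h0
  have hi : ∀ x, χ x⁻¹ = χ x := fun x => by
    have := h1 x x⁻¹
    rw [mul_inv_cancel, hU 1 U0.one_mem] at this
    revert this; cases χ x <;> cases χ x⁻¹ <;> simp
  let X0 : Subgroup E :=
    { carrier := {x | χ x = false}
      mul_mem' := fun {a b} ha hb => by rw [Set.mem_setOf_eq] at *; rw [h1, ha, hb]; rfl
      one_mem' := hU 1 U0.one_mem
      inv_mem' := fun {a} ha => (hi a).trans ha }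
  have m0 : ∀ {x}, φ x ∈ X0.map φ ↔ χ x = false := mem_map_iff_mem h.inj
  have tR : φ eT ∈ R := p.le ⟨eT, rfl⟩
  have sq : ∀ z ∈ R, z * z ∈ X0.map φ := fun z hz => by
    by_cases hn : z ∈ φ.range
    · obtain ⟨x, rfl⟩ := hn
      rw [← map_mul, m0, h1, Bool.xor_self]
    · obtain ⟨g, rfl, -⟩ := h.out p hz hn
      obtain ⟨e, he, k⟩ := h.sq_out p g g
      rw [k, m0, h1, h1, h2, hU e he, Bool.xor_false, Bool.xor_self]
  obtain ⟨y0, hy, hy', k⟩ : ∃ y0 ∈ R, y0 ∉ φ.range ∧ ∀ z ∈ R, z ∉ φ.range → IsConj (φ eT) z → y0 * y0 = 1 := by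
    by_cases H : ∃ z ∈ R, z ∉ φ.range ∧ IsConj (φ eT) z
    · obtain ⟨z, hz, hn, c⟩ := H
      exact ⟨z, hz, hn, fun _ _ _ _ => h.cs.sq' c⟩
    · exact ⟨y, p.mem, h.y_not p, fun z hz hn c => absurd ⟨z, hz, hn, c⟩ H⟩
  have hc : y0 * φ eT ∉ φ.range := fun e => hy' ((mul_mem_cancel_right (MonoidHom.mem_range.2 ⟨eT, rfl⟩)).1 e)
  obtain ⟨g, -, hg⟩ := h.out p (mul_mem hy tR) hc
  have mem := fun z => TwoGrp.mem_sup_zpowers_iff (C := X0.map φ) (g := z) (mem_normalizer_of_forall (by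
    rintro _ ⟨x, hx, rfl⟩
    rw [← hg, m0, MulAut.mul_apply, h2, MulAut.conj_apply, h1, h1, hi, show χ x = false from hx]
    simp)) (sq _ (mul_mem hy tR))
  refine h.cs.stop hG hR tR (N := X0.map φ ⊔ zpowers (y0 * φ eT)) (fun z hz => mem_sup_left (sq z hz)) (fun e => ?_)
    fun z hz c => ?_
  · rcases (mem _).1 e with e | ⟨_, ⟨x, -, rfl⟩, e⟩
    · rw [m0, h0] at e; exact absurd e (by decide)
    · exact hc ((mul_mem_cancel_left (MonoidHom.mem_range.2 ⟨x, rfl⟩)).1 (MonoidHom.mem_range.2 ⟨eT, e⟩))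
  by_cases hn : z ∈ φ.range
  · obtain ⟨x, rfl⟩ := hn
    exact mem_sup_left (by rw [← map_mul, m0, h1, h0, h4 x c]; rfl)
  have yy := k z hz hn c
  obtain ⟨x, e⟩ := h.mul_out p hz hy hn hy'
  obtain ⟨g', -, hg'⟩ := h.out p hy hy'
  have e1 : χ x = false := h3 x (by
    rw [← κ_congr L (κ_conj g' x), show κ x = κ x⁻¹ from rfl]
    refine congrArg κ (h.inj ((hg' x).trans ?_))
    rw [map_inv, e, mul_inv_rev, inv_eq_of_mul_eq_one_right (h.cs.sq' c), ← mul_assoc, mul_inv_cancel_right,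
      inv_eq_of_mul_eq_one_right yy])
  refine (mem _).2 (.inr ⟨φ (eT * x * eT⁻¹) * (φ eT * y0 * (φ eT * y0)), mul_mem (m0.2 (by rw [h1, h1, hi, e1]; simp))
    (sq _ (mul_mem tR hy)), ?_⟩)
  rw [map_mul, map_mul, map_inv, e]
  calc _ = φ eT * z * (y0 * y0) * (φ eT * (y0 * y0) * φ eT) := by rw [yy, mul_one, mul_one, h.cs.sq, mul_one]
    _ = _ := by group

theorem case_b (hC : IsConj (φ eT) (φ (eW * eC))) :
    ∀ x, κ (L x) = lin (κ (eT * eB)) (κ (eW * eB)) (κ eB) (κ (eT * eW * eB * eC)) x := fun x => by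
  obtain ⟨e1, e2⟩ := (two_cases L p.hT p.hB).resolve_left fun e =>
    h.notD (x := eC) rfl rfl ((h.Cκ e.2.symm hC).trans (p.ind.isConj eC).symm)
  rw [κ_map, p.hT, p.hB, e1, e2]

theorem not_syl (hG : _root_.commutator G = ⊤) : ¬ IsSylowIn 2 R ⊤ := fun hR => by
  have hC : ∀ {x}, κ (L eC) = κ x → ¬ IsConj (φ eT) (φ x) := fun e c =>
    h.notD (x := eC) rfl rfl ((h.Cκ e.symm c).trans (p.ind.isConj eC).symm)
  rcases two_cases L p.hT p.hB with ⟨e1, e2⟩ | ⟨e1, e2⟩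
  · have k : ∀ x, κ (L x) = lin (κ (eT * eB)) eW (κ eB) (κ (eW * eC)) x := fun x => by rw [κ_map, p.hT, p.hB, e1, e2]
    refine h.finish p hG hR (·.a) (by decide +kernel) (fun x => ?_) (fun x => ?_) fun x c => ?_
    · rw [show (L x).a = (κ (L x)).a from rfl, k]; revert x; decide +kernel
    · rw [k]; revert x; decide +kernel
    rcases (by decide +kernel : ∀ x : E, x * x = 1 → x.a = true ∨ (x.a = false ∧ x.b = false) ∨ κ x = κ (eW * eC) ∨
      κ x = κ eW ∨ κ x = κ (eW * eB)) x (h.C_sq c) with e | e | e | e | e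
    · exact e
    · exact absurd c (h.notD e.1 e.2)
    · exact absurd (h.Cκ e c) (hC e2)
    · exact absurd (h.mulT (h.Cκ e c) (by decide)) (hC e2)
    · exact absurd (h.mulT (x := eW) (h.mulT (v := eB) (h.Cκ e c) (by decide)) (by decide)) (hC e2)
  · have k : ∀ x, κ (L x) = lin (κ (eT * eB)) (κ (eW * eB)) (κ eB) (κ (eT * eW * eB * eC)) x := fun x => by
      rw [κ_map, p.hT, p.hB, e1, e2]
    refine h.finish p hG hR (fun x => x.a ^^ x.b) (by decide +kernel) (fun x => ?_) (fun x => ?_) fun x c => ?_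
    · rw [show ((L x).a ^^ (L x).b) = ((κ (L x)).a ^^ (κ (L x)).b) from rfl, k]; revert x; decide +kernel
    · rw [k]; revert x; decide +kernel
    rcases (by decide +kernel : ∀ x : E, x * x = 1 → (x.a ^^ x.b) = true ∨ (x.a = false ∧ x.b = false) ∨
      κ x = κ (eT * eW * eB * eC)) x (h.C_sq c) with e | e | e
    · exact e
    · exact absurd c (h.notD e.1 e.2)
    · exact absurd (h.Cκ e c) (hC e2)

theorem syl_top {R' : Subgroup G} {y' : G} {L' : MulAut E} (p' : Up (φ.comp sw.toMonoidHom) R' y' L')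
    (hodd : ¬ 2 ∣ (normalizer (U0.map φ : Set G)).relIndex ⊤) : IsSylowIn 2 R ⊤ := by
  obtain ⟨S, hS, hRS⟩ := exists_isSylowIn_ge p.syl.pgroup fun z hz => (p.syl.le hz).1
  suffices R = S from this ▸ hS.trans le_top hodd
  by_contra hne
  obtain ⟨n, hn, hnR, hN⟩ := exists_mem_normalizer_of_lt hS.pgroup (lt_of_le_of_ne hRS hne)
  obtain ⟨nu, xb, hb, nb⟩ := h.fixU hS.pgroup (p.le.trans hRS) hS.le hn
  have nu' : ∀ z, n⁻¹ * (z * φ eU) * n = n⁻¹ * z * n * φ eU := fun z => by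
    rw [show n⁻¹ * (z * φ eU) * n = n⁻¹ * (z * (n * φ eU * n⁻¹)) * n by rw [nu]]; group
  have hX : n ∈ normalizer (φ.range : Set G) := mem_normalizer_of_forall (by
    rintro _ ⟨x, rfl⟩
    by_contra hz
    obtain ⟨g, -, hg⟩ := h.out p (conj_mem_of_mem_normalizer hN (p.le ⟨x, rfl⟩)) hz
    have k : ∀ q, n⁻¹ * φ q * n ∈ φ.range → κ (L q) = κ q := fun q ⟨v, e⟩ => by
      rw [← κ_congr L (κ_conj g q), κ_iff]
      refine (κ_iff.1 (κ_conj x v)).imp (fun e1 => h.inj ((hg q).trans ?_)) fun e1 => h.inj ((hg q).trans ?_)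
      · calc _ = n * φ (x * v * x⁻¹) * n⁻¹ := by rw [map_mul, map_mul, map_inv, e]; group
          _ = _ := by rw [e1, e]; group
      · calc _ = n * φ (x * v * x⁻¹) * n⁻¹ := by rw [map_mul, map_mul, map_inv, e]; group
          _ = _ := by rw [e1, map_mul, e, ← nu', map_mul]; group
    have m : ∀ q, n⁻¹ * φ q * n ∈ R := fun q => conj_mem_of_mem_normalizer' hN (p.le ⟨q, rfl⟩)
    have k3 := h.mul_out p (m eT) (m eC) (fun e => absurd (p.hT ▸ k _ e) (by decide)) fun e => by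
      rcases two_cases L p.hT p.hB with e1 | e1 <;> exact absurd (e1.2.symm.trans (k _ e)) (by decide)
    rw [show n⁻¹ * φ eT * n * (n⁻¹ * φ eC * n) = n⁻¹ * φ (eT * eC) * n by rw [map_mul]; group] at k3
    have := k _ k3
    rw [κ_map, p.hT, p.hB] at this
    rcases two_cases L p.hT p.hB with e1 | e1 <;> rw [e1.1, e1.2] at this <;> exact absurd this (by decide))
  obtain ⟨K, hK⟩ := h.exists_aut hX
  have kb : K eB = xb := h.inj ((hK _).trans nb.symm)
  have c1 := Ind.isConj hK eT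
  have e1 : κ (K eT) = κ eW ∨ κ (K eT) = κ (eW * eB) := by
    have hc : K eT * eB = eB * K eT := by
      have : K eT * xb = xb * K eT := by rw [← kb, ← map_mul, ← map_mul]; rfl
      exact (by decide +kernel : ∀ x y, κ y = κ eB → x * y = y * x → x * eB = eB * x) _ _ hb this
    rcases (by decide +kernel : ∀ x : E, x * eB = eB * x → x * x = 1 → (x.a = false ∧ x.b = false) ∨
      eT⁻¹ * x ∈ U0 ∨ κ x = κ eW ∨ κ x = κ (eW * eB)) _ hc (h.C_sq c1) with e | e | e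
    · exact absurd c1 (h.notD e.1 e.2)
    · exact absurd ((p.syl.eq_of_le (Q := S ⊓ Nt (φ eT) (U0.map φ)) (hS.pgroup.to_le inf_le_left) (le_inf hRS p.syl.le)
        inf_le_right).le ⟨hn, hS.le hn, by rwa [← hK, ← map_inv, ← map_mul, h.mem_UU]⟩) hnR
    · exact e
  have cW : IsConj (φ eT) (φ eW) := e1.elim (fun e => h.Cκ e c1) fun e => h.mulT (v := eB) (h.Cκ e c1) (by decide)
  have b1 := h.case_b p (h.mulT cW (by decide))
  have b2 := h.symm.case_b p' (h.mulT (v := eB) cW (by decide))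
  have i2 : Ind φ y' (sw * L' * sw⁻¹) := fun x => by simpa using p'.ind (sw⁻¹ x)
  have b3 : ∀ x, κ ((sw * L' * sw⁻¹) x) =
      κ (sw (lin (κ (eT * eB)) (κ (eW * eB)) (κ eB) (κ (eT * eW * eB * eC)) (sw x))) := fun x =>
    κ_congr sw ((b2 (sw x)).trans rfl)
  generalize sw * L' * sw⁻¹ = J at i2 b3
  have fin : ∀ {m : G} {M : MulAut E}, Ind φ m M → κ (K eT) = κ (M eT) → κ eB = κ (M eB) := fun {m M} hM e => by
    have := κ_congr M (h.hfix (hM.inv.mul hK) (by simpa using κ_congr M⁻¹ e))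
    rwa [MulAut.mul_apply, MulAut.apply_inv_self, kb, hb] at this
  have t1 : κ (J (L eT)) = κ (eW * eB) := by rw [p.hT, b3]; rfl
  have t2 : κ (J (L eB)) = κ (eT * eW * eB * eC) := by rw [p.hB, b3]; rfl
  rcases e1 with e | e
  · exact absurd ((fin (p.ind.mul (i2.mul p.ind)) (e.trans ((κ_congr L t1).trans (b1 _)).symm)).trans
      ((κ_congr L t2).trans (b1 _))) (by decide)
  · exact absurd ((fin (i2.mul p.ind) (e.trans t1.symm)).trans t2) (by decide)

end Mo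

end CfsgLib.TL2.D8
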