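import Mathlib
import Cfsg.Agent.Lib.TL2.Dih2B

/-! # The case `D = D8` with a four-subgroup of `D` normal in a Sylow subgroup (plans/TL2.md, DIH2) -/

set_option autoImplicit false
set_option linter.unusedSectionVars false

namespace CfsgLib.TL2

open Subgroup CfsgLib.Tech CfsgLib.DihSyl

variable {G : Type*} [Group G] [Finite G] {t : G} {D T : Subgroup G}

theorem d8_exists_w (hG : _root_.commutator G = ⊤) (h : Cs t D T) {r s : G} (hd : IsDih D 4 r s)
    {S : Subgroup G} (hS : IsSylowIn 2 S ⊤) (hT : T ≤ S)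
    (hU : ∀ x ∈ S, Commute x (r * r) ∧ (x * s * x⁻¹ = s ∨ x * s * x⁻¹ = s * (r * r))) :
    ∃ w, w * w = 1 ∧ w * t * w⁻¹ = t * (r * r) ∧ Commute w r ∧ Commute w s := by
  have uD : r * r ∈ D := mul_mem hd.r_mem hd.r_mem
  obtain ⟨uu, u1⟩ := hd.half (m := 2) rfl two_pos
  rw [Nat.cast_two, zpow_two] at uu u1
  obtain ⟨x, hx, hxT, hn⟩ := exists_mem_normalizer_of_lt hS.pgroup
    (lt_of_le_of_ne hT fun e => h.not_syl hG h.hD (e ▸ hS))
  obtain ⟨-, xt, xD⟩ := h.up_dih (m := 1) hd one_pos hn fun c => hxT (h.mem_of_pgroup hS.pgroup hT hx c)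
  rw [Nat.cast_one, mul_one, zpow_two] at xt
  obtain ⟨xu, xs⟩ := hU x hx
  have xr : x * r * x⁻¹ = r ∨ x * r * x⁻¹ = r⁻¹ := by
    have e : x * r * x⁻¹ * (x * r * x⁻¹) = r * r := by rw [conj_mul, xu.eq, mul_inv_cancel_right]
    obtain ⟨j, hj⟩ := mem_zpowers_iff.1 (hd.mem_zpowers_of_sq_ne_one (conj_mem_of_mem_normalizer xD hd.r_mem) (e ▸ u1))
    rw [← hj, ← zpow_add, ← zpow_two, hd.eq_iff] at e
    rw [← hj, ← zpow_neg_one, hd.eq_iff]
    nth_rewrite 2 [← zpow_one r]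
    rw [hd.eq_iff]
    push_cast at e ⊢
    omega
  have rs : r * (s * (r * r)) * r⁻¹ = s := by
    calc _ = r * (s * r * s⁻¹) * s := by group
      _ = s := by rw [hd.conj]; group
  have sr : s * r⁻¹ * s⁻¹ = r := by rw [← conj_inv, hd.conj, inv_inv]
  obtain ⟨d, hdD, d1, d2⟩ : ∃ d ∈ D, d * (x * r * x⁻¹) * d⁻¹ = r ∧ d * (x * s * x⁻¹) * d⁻¹ = s := by
    rcases xr with e | e <;> rcases xs with e' | e' <;> rw [e, e']
    · exact ⟨1, one_mem _, by group, by group⟩
    · exact ⟨r, hd.r_mem, by group, rs⟩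
    · exact ⟨s, hd.s_mem, sr, by group⟩
    · refine ⟨s * r, mul_mem hd.s_mem hd.r_mem, Eq.trans (by group) sr, ?_⟩
      rw [show s * r * (s * (r * r)) * (s * r)⁻¹ = s * (r * (s * (r * r)) * r⁻¹) * s⁻¹ by group, rs]; group
  have k : ∀ a, d * x * a * (d * x)⁻¹ = d * (x * a * x⁻¹) * d⁻¹ := fun a => by group
  have wr : Commute (d * x) r := mul_inv_eq_iff_eq_mul.1 ((k r).trans d1)
  have ws : Commute (d * x) s := mul_inv_eq_iff_eq_mul.1 ((k s).trans d2)
  have wt : d * x * t * (d * x)⁻¹ = t * (r * r) := by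
    rw [k, xt, ((h.comm (h.le hdD)).mul_right (hU d (hT (h.le hdD))).1).eq, mul_inv_cancel_right]
  have wS := mul_mem (hT (h.le hdD)) hx
  generalize d * x = w at wr ws wt wS
  have wD : ∀ g ∈ D, Commute w g := fun g hg => by
    obtain ⟨i, rfl | rfl⟩ := (hd.mem g).1 hg
    exacts [wr.zpow_right i, (wr.zpow_right i).mul_right ws]
  have w2 : w * w ∈ T := h.mem_of_pgroup hS.pgroup hT (mul_mem wS wS) (mul_inv_eq_iff_eq_mul.1 (by
    rw [show w * w * t * (w * w)⁻¹ = w * (w * t * w⁻¹) * w⁻¹ by group, wt, ← conj_mul, wt, (wD _ uD).eq,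
      mul_inv_cancel_right, mul_assoc, uu, mul_one]))
  have w3 : w * w ∈ D := ((h.mem _).1 w2).resolve_right fun e => u1 (by
    have := (wD _ e).eq
    rw [← mul_assoc, mul_assoc t, mul_assoc w w, ← mul_assoc t, mul_left_inj] at this
    rwa [this, mul_inv_cancel_right, left_eq_mul] at wt)
  obtain ⟨a, ha, aa, e | e⟩ := hd.of_commute_rpows w3 (i := 0) (by simpa using (ws.mul_left ws).eq)
  · by_cases a1 : a = 1
    · exact ⟨w, e.trans a1, wt, wr, ws⟩
    rw [hd.eq_of_sq ha (mul_mem (mem_zpowers r) (mem_zpowers r)) aa uu a1 u1] at e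
    refine ⟨w * t, ?_, ?_, wr.mul_left (h.comm (h.le hd.r_mem)).symm, ws.mul_left (h.comm (h.le hd.s_mem)).symm⟩
    · calc _ = w * t * w⁻¹ * (w * w) * t := by group
        _ = 1 := by rw [wt, e, mul_assoc t, uu, mul_one, h.sq]
    · rw [← wt]; group
  · obtain ⟨j, rfl⟩ := mem_zpowers_iff.1 ha
    have := (wr.mul_left wr).eq
    rw [e, zpow_zero, one_mul, mul_assoc, ← mul_assoc r, ((Commute.refl r).zpow_right j).eq, mul_assoc,
      mul_right_inj] at this
    have c := hd.conj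
    rw [this, mul_inv_cancel_right] at c
    exact absurd (mul_eq_one_iff_eq_inv.2 c) u1

open D8 in
theorem d8_false (hG : _root_.commutator G = ⊤) (h : Cs t D T) {r s : G} (hd : IsDih D 4 r s)
    (tr1 : ∃ y, Commute y (r * r) ∧ Commute y s ∧ y * t * y⁻¹ = t * s)
    (tr2 : ∃ y, Commute y (r * r) ∧ Commute y (r * s) ∧ y * t * y⁻¹ = t * (r * s))
    {S : Subgroup G} (hS : IsSylowIn 2 S ⊤) (hT : T ≤ S)
    (hU : ∀ x ∈ S, Commute x (r * r) ∧ (x * s * x⁻¹ = s ∨ x * s * x⁻¹ = s * (r * r))) : False := by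
  obtain ⟨w, ww, wt, wr, ws⟩ := d8_exists_w hG h hd hS hT hU
  obtain ⟨uu, u1⟩ := hd.half (m := 2) rfl two_pos
  rw [Nat.cast_two, zpow_two] at uu u1
  have cD := mul_mem hd.r_mem hd.s_mem
  have ud := fun g hg => (hU g (hT (h.le hg))).1.eq.symm
  have cf : Cfg t w s (r * s) (r * r) D T :=
    { cs := h, ww := ww, bb := hd.ss, cc := by simpa using hd.rpows_sq 1, uu := uu, u1 := u1
      wt := by rw [(wr.mul_right wr).eq, ← mul_assoc, ← wt]; group
      cb := by
        calc _ = s * r * s⁻¹ * (r * r) := by rw [hd.conj, mul_assoc, hd.ss]; group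
          _ = _ := by rw [hd.s_inv]; group
      ut := (h.comm (h.le (mul_mem hd.r_mem hd.r_mem))).eq, uw := (wr.mul_right wr).eq.symm
      ub := ud _ hd.s_mem, uc := ud _ cD, bt := (h.comm (h.le hd.s_mem)).eq, bw := ws.eq.symm
      ct := (h.comm (h.le cD)).eq, cw := (wr.mul_right ws).eq.symm
      hD := by
        refine le_antisymm (fun g hg => ?_) ((closure_le _).2 (by rintro _ (rfl | rfl); exacts [hd.s_mem, cD]))
        have hs : s ∈ closure {s, r * s} := subset_closure (by simp)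
        have hr : r ∈ closure {s, r * s} := (mul_mem_cancel_right hs).1 (subset_closure (by simp))
        obtain ⟨i, rfl | rfl⟩ := (hd.mem g).1 hg
        exacts [zpow_mem hr i, mul_mem (zpow_mem hr i) hs] }
  obtain ⟨φ, m, rfl, e2, e3, e4⟩ := cf.exists_mo
  rw [← e3, ← e4] at tr2
  rw [← e2, ← e4] at tr1 hU
  obtain ⟨R, y, L, p⟩ := m.exists_up tr1
  obtain ⟨R', y', L', p'⟩ := m.symm.exists_up tr2
  refine m.not_syl p hG (m.syl_top p p' fun e => hS.not_dvd (e.trans (relIndex_dvd_of_le_left _ fun x hx =>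
    mem_normalizer_of_forall ?_)))
  rintro _ ⟨a, ha, rfl⟩
  obtain ⟨h1, h2⟩ := hU x hx
  have h3 : x * φ eU * x⁻¹ ∈ U0.map φ := by rw [h1.eq, mul_inv_cancel_right, m.mem_UU]; decide
  have h4 : x * φ eB * x⁻¹ ∈ U0.map φ := by
    rcases h2 with e | e <;> rw [e]
    · rw [m.mem_UU]; decide
    · rw [← map_mul, m.mem_UU]; decide
  rcases (by decide +kernel : ∀ x ∈ U0, x = 1 ∨ x = eU ∨ x = eB ∨ x = eB * eU) a ha with rfl | rfl | rfl | rfl
  · simp
  · exact h3
  · exact h4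
  · rw [map_mul, ← conj_mul]; exact mul_mem h4 h3

end CfsgLib.TL2
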