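import Mathlib
import Cfsg.Agent.Lib.TL2.Dih2
import Cfsg.Agent.Lib.Transfer.Cocycle
import Cfsg.Agent.Lib.PD.ToolsA

/-! # The case `D` dihedral of order at least 8 (plans/TL2.md, DIH1) -/

set_option autoImplicit false
set_option linter.unusedSectionVars false

namespace CfsgLib.TL2

open Subgroup CfsgLib.Tech CfsgLib.DihSyl CfsgLib.TwoGrp

variable {G : Type*} [Group G] [Finite G] {t : G} {D T : Subgroup G}

namespace Dih1

theorem mul_mem_of_le_two {L H : Subgroup G} (h : L.relIndex H ≤ 2) {x y : G} (hx : x ∈ H) (hy : y ∈ H)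
    (h1 : x ∉ L) (h2 : y ∉ L) : x * y ∈ L := by
  have h3 : L.relIndex H ≠ 1 := fun e => h1 (relIndex_eq_one.1 e hx)
  have h4 : L.relIndex H ≠ 0 := index_ne_zero_of_finite
  exact (mul_mem_iff_of_index_two (H := L.subgroupOf H) (show L.relIndex H = 2 by omega)
    (a := ⟨x, hx⟩) (b := ⟨y, hy⟩)).2 (iff_of_false h1 h2)

theorem eq_of_zpowers {x a b : G} (ha : a ∈ zpowers x) (hb : b ∈ zpowers x) (aa : a * a = 1) (bb : b * b = 1)
    (a1 : a ≠ 1) (b1 : b ≠ 1) : a = b := by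
  have h := mem_zpowers_of_orderOf_dvd (isOfFinOrder_of_finite x) ha hb
    (by rw [orderOf_two_of_mul_self aa a1, orderOf_two_of_mul_self bb b1])
  obtain ⟨k, rfl⟩ := mem_zpowers_iff.1 h
  have h2 : b ^ (2 : ℤ) = 1 := by rw [zpow_two, bb]
  rcases Int.even_or_odd' k with ⟨k, rfl | rfl⟩
  · exact absurd (by rw [zpow_mul, h2, one_zpow]) a1
  · rw [zpow_add, zpow_mul, h2, one_zpow, one_mul, zpow_one]

variable {m : ℕ} {r s : G}

theorem half (hd : IsDih D (4 * m) r s) (hm : 0 < m) :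
    r ^ (2 * m : ℤ) * r ^ (2 * m : ℤ) = 1 ∧ r ^ (2 * m : ℤ) ≠ 1 := by
  simpa using hd.half (m := 2 * m) (by ring) (by omega)

theorem sw (h : Cs t D T) (hd : IsDih D (4 * m) r s) (hm : 0 < m) (i : ℤ) :
    ∃ σ, Commute σ t ∧ Commute σ (r ^ i * s) ∧ σ * r ^ (2 * m : ℤ) * σ⁻¹ = r ^ (2 * m : ℤ) * (r ^ i * s) := by
  have : Fact (Nat.Prime 2) := ⟨Nat.prime_two⟩
  obtain ⟨h1, h2⟩ := half hd hm
  set u := r ^ (2 * m : ℤ) with hu
  have uD : u ∈ D := hd.rpow_mem _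
  have uc : ∀ x ∈ D, x * u = u * x := fun x hx => hd.commute_of_sq ⟨_, rfl⟩ h1 hx
  have ut := h.comm (h.le uD)
  obtain ⟨g, hg, e⟩ := h.fus u uD _ (hd.rpows_mem i) h2 (hd.rpows_ne_one i) h1 (hd.rpows_sq i)
  have hS : IsSylowIn 2 (cj g T) (centralizer {t} ⊓ centralizer {r ^ i * s}) := by
    have h3 := h.syl.cj_of_mem (mem_centralizer_singleton_iff.2 hg)
    refine h3.of_le (le_inf h3.le ?_) inf_le_left
    rw [← e, ← cj_centralizer_singleton]
    refine cj_mono g fun x hx => mem_centralizer_singleton_iff.2 (((h.mem x).1 hx).elim (uc x) fun a => ?_)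
    have := uc _ a
    rwa [← mul_assoc, ut.eq, mul_assoc, mul_assoc, mul_right_inj] at this
  obtain ⟨k, ⟨k1, k2⟩, hk⟩ := hS.exists_conj_mem (x := u) ⟨mem_centralizer_singleton_iff.2 ut,
    mem_centralizer_singleton_iff.2 (uc _ (hd.rpows_mem i)).symm⟩ (isPGroup_two_zpowers h1)
  replace k1 : Commute k t := mem_centralizer_singleton_iff.1 k1
  replace k2 : Commute k (r ^ i * s) := mem_centralizer_singleton_iff.1 k2
  have e1 : k⁻¹ * g * u * (k⁻¹ * g)⁻¹ = r ^ i * s := by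
    rw [show k⁻¹ * g * u * (k⁻¹ * g)⁻¹ = k⁻¹ * (g * u * g⁻¹) * k by group, e, k2.inv_left.eq,
      inv_mul_cancel_right]
  have e2 : (k⁻¹ * g)⁻¹ * u * (k⁻¹ * g)⁻¹⁻¹ ∈ T := by simpa [mul_assoc] using mem_cj.1 hk
  have e3 := k1.inv_left.mul_left hg
  generalize k⁻¹ * g = a at e1 e2 e3
  have c := isConj_cj a⁻¹ u
  obtain ⟨j, e4 | e4⟩ := (hd.mem _).1 (h.mem_D e2 (sq_of_isConj c h1) fun c' => h.hD u uD (c'.trans c.symm))
  · have := hd.eq_of_sq (b := u) (e4 ▸ ⟨j, rfl⟩) ⟨_, rfl⟩ (sq_of_isConj c h1) h1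
      (fun e => h2 (isConj_one_left.1 (e ▸ c))) h2
    refine absurd (e1.symm.trans (?_ : _ = u)) (hd.rpows_ne i (2 * m))
    conv_lhs => rw [← this]
    group
  have e5 : r ^ (m : ℤ) * (a⁻¹ * u * a⁻¹⁻¹) * (r ^ (m : ℤ))⁻¹ = u * (a⁻¹ * u * a⁻¹⁻¹) := by
    rw [e4, hd.rpow_conj_rpows, hu, ← mul_assoc, ← zpow_add, add_comm]
  refine ⟨a * r ^ (m : ℤ) * a⁻¹, (e3.mul_left (h.comm (h.le (hd.rpow_mem _)))).mul_left e3.inv_left,
    e1 ▸ Commute.map (uc _ (hd.rpow_mem m)) (MulAut.conj a), ?_⟩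
  rw [← uc _ (hd.rpows_mem i), ← e1]
  calc _ = a * (r ^ (m : ℤ) * (a⁻¹ * u * a⁻¹⁻¹) * (r ^ (m : ℤ))⁻¹) * a⁻¹ := by group
    _ = _ := by rw [e5]; group

theorem up (hG : _root_.commutator G = ⊤) (h : Ct t D T) (hd : IsDih D (4 * m) r s) (hm : 0 < m) :
    Cs t D T ∧ Cs (t * r ^ (2 * m : ℤ)) D T ∧ ∃ R : Subgroup G, IsPGroup 2 R ∧ T < R := by
  have : Fact (Nat.Prime 2) := ⟨Nat.prime_two⟩
  obtain ⟨R, hR, lt, -, hN⟩ := exists_lt_pgroup_normalizer h.syl.pgroup le_top (h.not_syl hG (h.hD_dih hd hm))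
  obtain ⟨x, hx, hx'⟩ := SetLike.exists_of_lt lt
  obtain ⟨k, e, hD⟩ := h.up_dih hd hm (hN hx) fun c => hx' (h.mem_of_pgroup hR lt.le hx c)
  have := k.cj x
  rw [e, mem_normalizer_iff_cj.1 hD, mem_normalizer_iff_cj.1 (hN hx)] at this
  exact ⟨k, this, R, hR, lt⟩

theorem tr (hG : _root_.commutator G = ⊤) (h : Ct t D T) (hd : IsDih D (4 * m) r s) (hm : 0 < m) (i : ℤ) :
    ∃ y, Commute y (r ^ (2 * m : ℤ)) ∧ Commute y (r ^ i * s) ∧ y * t * y⁻¹ = t * (r ^ i * s) := by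
  obtain ⟨k, k', -⟩ := up hG h hd hm
  obtain ⟨σ, a1, a2, a3⟩ := sw k hd hm i
  obtain ⟨τ, b1, b2, b3⟩ := sw k' hd hm i
  have h1 := (half hd hm).1
  have h2 := hd.rpows_sq i
  generalize r ^ (2 * m : ℤ) = u at *
  generalize r ^ i * s = b at *
  have key : ∀ {x}, Commute x b → x * u * x⁻¹ = u * b → x * (u * b) * x⁻¹ = u := fun c e => by
    rw [← conj_mul, e, c.eq, mul_inv_cancel_right, mul_assoc, h2, mul_one]
  refine ⟨τ * σ⁻¹, ?_, b2.mul_left a2.inv_left, ?_⟩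
  · refine mul_inv_eq_iff_eq_mul.1 ?_
    conv_lhs => rw [← key a2 a3]
    rw [← key b2 b3]
    conv_lhs => rw [key b2 b3]
    group
  · calc _ = τ * (σ⁻¹ * t * σ) * τ⁻¹ := by group
      _ = τ * (t * u) * τ⁻¹ * (τ * u * τ⁻¹) := by
        rw [a1.inv_left.eq, inv_mul_cancel_right, conj_mul, mul_assoc t, h1, mul_one]
      _ = _ := by rw [b1.eq, mul_inv_cancel_right, b3, mul_assoc, ← mul_assoc u, h1, one_mul]

theorem aux (h : Cs t D T) {n : ℕ} (hd : IsDih D n r s) {R U : Subgroup G} (hR : T.relIndex R ≤ 2)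
    (hU : IsKleinFour U) (hn : ∀ v ∈ U, ¬ IsConj t v) {a y z v w : G} (ha : a ∈ R) (hy : y ∈ R) (hz : z ∈ R)
    (ca : a ∈ centralizer (U : Set G)) (cy : y ∈ centralizer (U : Set G)) (cz : z ∈ centralizer (U : Set G))
    (ey : y * a * y⁻¹ = a * v) (ez : z * a * z⁻¹ = a * w) (hv : v ∈ U) (hw : w ∈ U) (v1 : v ≠ 1) (w1 : w ≠ 1)
    (vw : v ≠ w) (hT : T ≤ R) : False := by
  have mul := fun {x y} => mul_mem_of_le_two hR (x := x) (y := y)
  have nrm : ∀ {x y}, x ∈ R → y ∈ T → x * y * x⁻¹ ∈ T := fun {x y} hx hy => by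
    by_cases e : x ∈ T
    · exact mul_mem (mul_mem e hy) (inv_mem e)
    · exact mul (mul_mem hx (hT hy)) (inv_mem hx) (fun e' => e ((mul_mem_cancel_right hy).1 e'))
        (mt inv_mem_iff.1 e)
  have hD : ∀ {x v}, x ∈ R → x * a * x⁻¹ = a * v → v ∈ U → v ∈ D := fun {x v} hx e hv => by
    refine h.mem_D ?_ (mul_self_of_isKleinFour hU hv) (hn v hv)
    rw [← inv_mul_cancel_left a v, ← e]
    by_cases e' : a ∈ T
    · exact mul_mem (inv_mem e') (nrm hx e')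
    · exact mul (inv_mem ha) (mul_mem (mul_mem hx ha) (inv_mem hx)) (mt inv_mem_iff.1 e')
        fun e'' => e' (by simpa [mul_assoc] using nrm (inv_mem hx) e'')
  have hUD : U ≤ D := fun x hx => by
    rcases (mem_iff_of_isKleinFour hU hv hw v1 w1 vw x).1 hx with rfl | rfl | rfl | rfl
    exacts [one_mem _, hD hy ey hv, hD hz ez hw, mul_mem (hD hy ey hv) (hD hz ez hw)]
  have key : ∀ {x v}, x ∈ T → x ∈ centralizer (U : Set G) → x * a * x⁻¹ = a * v → v ≠ 1 →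
      t * a * t⁻¹ = a * v := fun {x v} hx cx e v1 => by
    rcases (h.mem x).1 hx with e' | e'
    · rw [ca x (hd.mem_of_commute_four hUD hU e' cx), mul_inv_cancel_right] at e
      exact absurd (left_eq_mul.1 e) v1
    · have := ca _ (hd.mem_of_commute_four hUD hU e' fun u hu => by
        rw [← mul_assoc, (h.comm (h.le (hUD hu))).eq, mul_assoc, cx u hu, mul_assoc])
      rw [← e]
      conv_rhs => rw [← h.tt x]
      rw [mul_assoc t (t * x), this]
      group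
  by_cases e : a ∈ T
  · have k : ∀ {x v}, x ∈ centralizer (U : Set G) → x * a * x⁻¹ = a * v → v ≠ 1 → x ∉ T :=
      fun cx e' v1 hx => v1 (by
        have := key hx cx e' v1
        rwa [← (h.comm e).eq, mul_inv_cancel_right, left_eq_mul] at this)
    refine k (v := v * w) (mul_mem cy cz) ?_ (fun e' => vw ?_) (mul hy hz (k cy ey v1) (k cz ez w1))
    · calc _ = y * (z * a * z⁻¹) * y⁻¹ := by group
        _ = _ := by rw [ez, ← conj_mul, ey, ← cy w hw, mul_inv_cancel_right, mul_assoc]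
    · rw [← mul_self_of_isKleinFour hU hw] at e'
      exact mul_right_cancel e'
  · have k : ∀ {x v}, x ∈ R → x ∈ centralizer (U : Set G) → x * a * x⁻¹ = a * v → v ∈ U → v ≠ 1 →
        t * a * t⁻¹ = a * v := fun {x v} hx cx e' hv v1 => by
      by_cases e'' : x ∈ T
      · exact key e'' cx e' v1
      · refine key (mul ha hx e e'') (mul_mem ca cx) ?_ v1
        calc _ = a * (x * a * x⁻¹) * a⁻¹ := by group
          _ = _ := by rw [e', ← ca v hv, ← mul_assoc, mul_inv_cancel_right, ca v hv]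
    exact vw (mul_left_cancel ((k hy cy ey hv v1).symm.trans (k hz cz ez hw w1)))

theorem four_le (hG : _root_.commutator G = ⊤) (h : Ct t D T) (hd : IsDih D (4 * m) r s) (hm : 0 < m)
    {S : Subgroup G} (hS : IsSylowIn 2 S ⊤) : 4 * Nat.card T ≤ Nat.card S := by
  have : Fact (Nat.Prime 2) := ⟨Nat.prime_two⟩
  by_contra! hlt
  obtain ⟨k, -, R, hR, lt⟩ := up hG h hd hm
  obtain ⟨R, hR, le⟩ := exists_isSylowIn_ge hR le_top
  replace le := lt.le.trans le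
  have idx : T.relIndex R ≤ 2 := by
    obtain ⟨a, ha⟩ := IsPGroup.index hR.pgroup (T.subgroupOf R)
    rw [hS.card_eq hR, ← card_mul_relIndex' le, mul_comm, relIndex, ha] at hlt
    have := (Nat.pow_lt_pow_iff_right (a := 2) (m := 2) one_lt_two).1 (Nat.lt_of_mul_lt_mul_right hlt)
    rw [relIndex, ha]
    exact Nat.pow_le_pow_right (i := a) (j := 1) two_pos (by omega)
  obtain ⟨h1, h2⟩ := half hd hm
  obtain ⟨U, hU, hUD, mem⟩ : ∃ U : Subgroup G, IsKleinFour U ∧ U ≤ D ∧ ∀ g, g ∈ U ↔ g = 1 ∨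
      g = r ^ (2 * m : ℤ) ∨ g = r ^ (0 : ℤ) * s ∨ g = r ^ (2 * m : ℤ) * (r ^ (0 : ℤ) * s) :=
    ⟨_, hd.isKleinFour_sup ⟨_, rfl⟩ h1 h2 0⟩
  obtain ⟨y, a1, a2, a3⟩ := tr hG h hd hm 0
  obtain ⟨z, b1, b2, b3⟩ := tr hG h hd hm (2 * m)
  have e : r ^ (2 * m : ℤ) * s = r ^ (2 * m : ℤ) * (r ^ (0 : ℤ) * s) := by simp
  have n1 := hd.rpows_ne_one 0
  have n3 := hd.rpows_ne_one (2 * m)
  have n4 := hd.rpows_sq 0
  rw [e] at b2 b3 n3
  generalize r ^ (2 * m : ℤ) = u at *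
  generalize r ^ (0 : ℤ) * s = b at *
  have cen : ∀ {x}, Commute x u → Commute x b → x ∈ centralizer (U : Set G) := fun c1 c2 w hw => by
    rcases (mem w).1 hw with rfl | rfl | rfl | rfl
    exacts [by simp, c1.symm.eq, c2.symm.eq, (c1.mul_right c2).symm.eq]
  have uU : u ∈ U := (mem _).2 (by simp)
  have bU : b ∈ U := (mem _).2 (by simp)
  have mM : ∀ {x v}, x ∈ centralizer (U : Set G) → x * t * x⁻¹ = t * v → v ∈ U →
      x ∈ Nt t U ⊓ centralizer (U : Set G) := fun c e hv =>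
    ⟨⟨centralizer_le_normalizer _ c, by rwa [e, inv_mul_cancel_left]⟩, c⟩
  have ct : t ∈ centralizer (U : Set G) := fun w hw => h.comm (h.le (hUD hw))
  have cy := cen a1 a2
  have cz := cen b1 (by simpa [← mul_assoc, h1] using b1.mul_right b2)
  have my := mM cy a3 bU
  have mz := mM cz b3 (mul_mem uU bU)
  have mt := mM (v := 1) ct (by simp) (one_mem U)
  obtain ⟨Q, hQ, tQ⟩ := exists_isSylowIn_ge (isPGroup_two_zpowers h.sq) (zpowers_le.2 mt)
  have orb : {w | ∃ x ∈ Nt t U ⊓ centralizer (U : Set G), x * t * x⁻¹ = w}.ncard = 2 ^ 2 := by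
    refine Eq.trans ?_ ((Set.ncard_image_of_injective (U : Set G) (mul_right_injective t)).trans hU.card_four)
    congr 1
    ext w
    refine ⟨fun ⟨x, hx, e⟩ => ⟨_, hx.1.2, by simp [e]⟩, ?_⟩
    rintro ⟨v, hv, rfl⟩
    rcases (mem v).1 hv with rfl | rfl | rfl | rfl
    · exact ⟨1, one_mem _, by simp⟩
    · refine ⟨z * y, mul_mem mz my, ?_⟩
      calc _ = z * (y * t * y⁻¹) * z⁻¹ := by group
        _ = _ := by rw [a3, ← conj_mul, b3, ← cz b bU, mul_inv_cancel_right, mul_assoc, mul_assoc, n4, mul_one]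
    · exact ⟨y, my, a3⟩
    · exact ⟨z, mz, b3⟩
  obtain ⟨y', hy', ey⟩ := reach hQ orb my
  obtain ⟨z', hz', ez⟩ := reach hQ orb mz
  obtain ⟨g, -, hg⟩ := hR.exists_cj_le hQ.pgroup le_top
  replace hg : Q ≤ cj g⁻¹ R := (cj_inv_cj g Q).ge.trans (cj_mono _ hg)
  exact aux (k.cj g⁻¹) (isDih_cj hd g⁻¹) (R := cj g⁻¹ R) (by rwa [relIndex_cj]) hU
    (fun v hv c => k.hD v (hUD hv) ((isConj_cj _ _).trans c)) (hg (tQ (mem_zpowers t))) (hg hy') (hg hz') ct
    (hQ.le hy').2 (hQ.le hz').2 (ey.trans a3) (ez.trans b3) bU (mul_mem uU bU) n1 n3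
    (fun e => h2 (right_eq_mul.1 e)) (cj_mono _ le)

theorem last (hG : _root_.commutator G = ⊤) (h : Ct t D T) (hd : IsDih D (4 * m) r s) (hm : 0 < m)
    {S W : Subgroup G} (hS : IsSylowIn 2 S ⊤) (hT : T ≤ S) (hW : IsKleinFour W) (h1 : W ≤ S)
    (h2 : S ≤ normalizer (W : Set G)) (hn : ∀ w ∈ W, ¬ IsConj t w) (hc : ∀ w ∈ W, Commute w t)
    {z : G} (hz : z ∈ W) (z1 : z ≠ 1) (zc : ∀ x ∈ S, x * z = z * x) : False := by
  obtain ⟨k, -⟩ := up hG h hd hm
  obtain ⟨z₀, hz₀, zz, z1', i, mem⟩ := hd.exists_of_isKleinFour (fun w hw =>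
    k.mem_D (h.mem_of_pgroup hS.pgroup hT (h1 hw) (hc w hw)) (mul_self_of_isKleinFour hW hw) (hn w hw)) hW
  obtain ⟨j, rfl⟩ := mem_zpowers_iff.1 hz₀
  have rS := hT (h.le (hd.rpow_mem 1))
  have nc : ∀ l : ℤ, r ^ (1 : ℤ) * (r ^ l * s) * (r ^ (1 : ℤ))⁻¹ ≠ r ^ l * s := fun l e => by
    rw [hd.rpow_conj_rpows, mul_left_inj, hd.eq_iff] at e
    have := Int.le_of_dvd (by omega) e
    push_cast at this
    omega
  have bW : r ^ i * s ∈ W := (mem _).2 (by simp)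
  obtain rfl : z = r ^ j := by
    rcases (mem z).1 hz with e | e | e | e
    · exact absurd e z1
    · exact e
    · exact absurd (by rw [← e, zc _ rS, mul_inv_cancel_right]) (nc i)
    · rw [← mul_assoc, ← zpow_add] at e
      exact absurd (by rw [← e, zc _ rS, mul_inv_cancel_right]) (nc (j + i))
  have hU : ∀ x ∈ S, x * (r ^ i * s) * x⁻¹ = r ^ i * s ∨ x * (r ^ i * s) * x⁻¹ = r ^ j * (r ^ i * s) :=
    fun x hx => by
      rcases (mem _).1 (conj_mem_of_mem_normalizer (h2 hx) bW) with e | e | e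
      · exact absurd (isConj_one_left.1 (e ▸ isConj_cj _ _)) (hd.rpows_ne_one i)
      · rw [mul_inv_eq_iff_eq_mul, ← zc x hx, mul_right_inj] at e
        exact absurd e (hd.rpows_ne i j)
      · exact e
  have e : r ^ j = r * r := by
    have := (hU _ rS).resolve_left (nc i)
    rw [hd.rpow_conj_rpows, ← mul_assoc, mul_left_inj, add_comm, zpow_add, mul_left_inj] at this
    rw [← this, mul_one, zpow_two]
  obtain rfl : m = 1 := by
    rw [e, ← pow_two, ← pow_two, ← pow_mul, ← orderOf_dvd_iff_pow_eq_one, hd.ord] at zz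
    have := Nat.le_of_dvd (by omega) zz
    omega
  have t1 := tr hG h hd hm i
  have t2 := tr hG h hd hm (1 + i)
  simp only [Nat.cast_one, mul_one, zpow_two, zpow_add, zpow_one, mul_assoc r] at t1 t2
  exact d8_false hG k (isDih_shift hd i) t1 t2 hS hT fun x hx =>
    ⟨e ▸ zc x hx, (hU x hx).imp_right fun e' => by rw [e', ← e, zc _ (h1 bW)]⟩

end Dih1

open Dih1 in
theorem dih_false (hG : _root_.commutator G = ⊤) (h : Ct t D T) {n : ℕ} {r s : G} (hd : IsDih D n r s)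
    (hn : 4 ≤ n) : False := by
  have : Fact (Nat.Prime 2) := ⟨Nat.prime_two⟩
  obtain ⟨m, rfl⟩ : 4 ∣ n := by
    obtain ⟨k, rfl⟩ := hd.exists_pow_of_isPGroup h.pgD
    exact pow_dvd_pow 2 ((Nat.pow_le_pow_iff_right (a := 2) (n := 2) one_lt_two).1 hn)
  have hm : 0 < m := by omega
  obtain ⟨S, hS, hT⟩ := exists_isSylowIn_ge h.syl.pgroup le_top
  have h4 := four_le hG h hd hm hS
  rcases PD.ToolsA.exists_four_or_cyclic hS.pgroup with ⟨W, ⟨h1, h2⟩, c4, sq⟩ | ⟨x, -, hx⟩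
  swap
  · obtain ⟨u1, u2⟩ := half hd hm
    obtain ⟨hU, hUD, -⟩ := hd.isKleinFour_sup ⟨_, rfl⟩ u1 u2 0
    generalize (_ ⊔ _ : Subgroup G) = U at hU hUD
    obtain ⟨a, b, ha, hb, a1, b1, ab⟩ := exists_gens_of_isKleinFour hU
    have hUS := hUD.trans (h.le.trans hT)
    have sq := fun {a} => mul_self_of_isKleinFour hU (a := a)
    have key : ∀ v ∈ U, ∀ w ∈ U, v ≠ 1 → w ≠ 1 → v ≠ w → v ∉ zpowers x := fun v hv w hw v1 w1 vw hx' => by
      have k : ∀ y, y * y = 1 → y ∉ D → y ∉ zpowers x := fun y yy hy hy' =>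
        hy (eq_of_zpowers hx' hy' (sq hv) yy v1 (fun e => hy (e ▸ one_mem D)) ▸ hUD hv)
      refine k _ ?_ (fun e => h.nt ((mul_mem_cancel_right (hUD hw)).1 e)) (mul_mem_of_le_two hx (hT h.t_mem)
        (hUS hw) (k t h.sq h.nt) fun e => vw (eq_of_zpowers hx' e (sq hv) (sq hw) v1 w1))
      rw [mul_assoc, ← mul_assoc w, (h.comm (h.le (hUD hw))).eq, mul_assoc, h.tt, sq hw]
    exact key _ (mul_mem ha hb) a ha (fun e => ab (mul_right_cancel (e.trans (sq hb).symm))) a1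
      (fun e => b1 (mul_eq_left.1 e))
      (mul_mem_of_le_two hx (hUS ha) (hUS hb) (key a ha b hb a1 b1 ab) (key b hb a ha b1 a1 ab.symm))
  have hW : IsKleinFour W := ⟨c4, by
    have : Nontrivial W := Finite.one_lt_card_iff_nontrivial.1 (by omega)
    exact (Monoid.exponent_eq_prime_iff Nat.prime_two).2 fun g hg =>
      orderOf_eq_prime (Subtype.ext (by rw [pow_two]; exact sq g g.2)) hg⟩
  have hn : ∀ w ∈ W, ¬ IsConj t w := fun w hw c => by
    have a1 := card_conj S w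
    have a2 := h.card_le c (hS.pgroup.to_le inf_le_left) (inf_le_right (a := S))
    have a3 : {v | ∃ z ∈ S, z * w * z⁻¹ = v}.ncard < 4 := c4 ▸ Set.ncard_lt_ncard ⟨fun _ ⟨z, hz, e⟩ =>
      e ▸ conj_mem_of_mem_normalizer (h2 hz) hw, fun e => by
        obtain ⟨z, -, e⟩ := e (one_mem W)
        exact h.ne' (c.trans (isConj_cj z w)) e⟩
    have := Nat.card_pos (α := T)
    nlinarith
  obtain ⟨z, hz, z1, zc⟩ := exists_mem_center_of_normalized hS.pgroup h1 h2 (by rintro rfl; simp at c4)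
  replace z1 := ne_one_of_orderOf_two z1
  obtain ⟨a, ha, a1, az⟩ : ∃ a ∈ W, a ≠ 1 ∧ z ≠ a := by
    obtain ⟨a, b, ha, hb, a1, b1, ab⟩ := exists_gens_of_isKleinFour hW
    by_cases e : z = a
    exacts [⟨b, hb, b1, e ▸ ab⟩, ⟨a, ha, a1, e⟩]
  have mem := mem_iff_of_isKleinFour hW hz ha z1 a1 az
  obtain ⟨g, g1, g2⟩ : ∃ g, g⁻¹ * t * g ∈ centralizer {a} ∧ ∀ x ∈ T, g⁻¹ * x * g ∈ S := by
    by_cases e : S ≤ centralizer {a}
    · exact ⟨1, by simpa using e (hT h.t_mem), fun x hx => by simpa using hT hx⟩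
    refine Transfer.thompson_transfer_extremal (no_two hG) (by simpa using hS.not_dvd) ?_ h.sq h.syl.pgroup
      h.syl.le
    obtain ⟨y, hy, hy'⟩ := SetLike.not_le_iff_exists.1 e
    have k : ∀ x ∈ S, x ∉ centralizer {a} → x * a * x⁻¹ = z * a := fun x hx hx' => by
      rcases (mem _).1 (conj_mem_of_mem_normalizer (h2 hx) ha) with e | e | e | e
      · exact absurd (isConj_one_left.1 (e ▸ isConj_cj _ _)) a1
      · rw [mul_inv_eq_iff_eq_mul, ← zc x hx, mul_right_inj] at e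
        exact absurd e.symm az
      · exact absurd (mem_centralizer_singleton_iff.2 (mul_inv_eq_iff_eq_mul.1 e)) hx'
      · exact e
    refine relIndex_eq_two_iff_exists_notMem_and'.2 ⟨y, hy, hy', fun x hx => or_iff_not_imp_right.2 fun hx' =>
      mem_centralizer_singleton_iff.2 (mul_inv_eq_iff_eq_mul.1 ?_)⟩
    calc _ = y * (x * a * x⁻¹) * y⁻¹ := by group
      _ = _ := by rw [k x hx hx', ← conj_mul, k y hy hy', zc y hy, mul_inv_cancel_right, ← mul_assoc, sq z hz, one_mul]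
  have g3 := g2 t h.t_mem
  rw [← inv_inv g, inv_inv g⁻¹] at g1 g3
  refine last hG (h.cj g⁻¹) (isDih_cj hd g⁻¹) hm hS (cj_le_iff.2 (by simpa using g2)) hW h1 h2
    (fun w hw c => hn w hw ((isConj_cj _ _).trans c)) (fun w hw => ?_) hz z1 zc
  have c1 : Commute z _ := (zc _ g3).symm
  have c2 : Commute a _ := (mem_centralizer_singleton_iff.1 g1).symm
  rcases (mem w).1 hw with rfl | rfl | rfl | rfl
  exacts [Commute.one_left _, c1, c2, c1.mul_left c2]

end CfsgLib.TL2
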