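import Mathlib
import Cfsg.Agent.Lib.TL2.Defs
import Cfsg.Agent.Lib.Abel2.Good2
import Cfsg.Agent.Lib.GHA.SL2
import Cfsg.Agent.Lib.DihSyl.Fusion
import Cfsg.Agent.Lib.SmallSimple.NC

/-! # The facts about `PSL(2,F)` that are used -/

set_option autoImplicit false
set_option linter.unusedSectionVars false

namespace CfsgLib.TL2

open Subgroup CfsgLib.Tech CfsgLib.DihSyl CfsgLib.SL2 Matrix MatrixGroups

/-- `P` is elementary of order at least 4 and its normaliser acts commutatively -/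
def ElSyl {B : Type*} [Group B] (P : Subgroup B) : Prop :=
  (∀ v ∈ P, v * v = 1) ∧ 4 ≤ Nat.card P ∧ ∀ g ∈ normalizer (P : Set B), ∀ h ∈ normalizer (P : Set B), ∀ v ∈ P,
    g * (h * v * h⁻¹) * g⁻¹ = h * (g * v * g⁻¹) * h⁻¹

theorem elSyl_of_four {B : Type*} [Group B] [Finite B] (P : Sylow 2 B) (h4 : Nat.card (P : Subgroup B) = 4)
    (hP : ∀ v ∈ (P : Subgroup B), v * v = 1) : ElSyl (P : Subgroup B) := by
  refine ⟨hP, h4.ge, fun g hg h hh v hv => ?_⟩
  have h1 : Nat.card (P : Subgroup B).normalizerMonoidHom.range ∣ 6 :=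
    (card_subgroup_dvd_card _).trans (by
      have := SmallSimple.card_mulAut_dvd_factorial (P : Subgroup B)
      rwa [h4] at this)
  have h2 : ¬ 2 ∣ Nat.card (P : Subgroup B).normalizerMonoidHom.range := by
    rw [← index_ker, normalizerMonoidHom_ker]
    refine fun a => ((IsSylowIn.of_sylow P le_normalizer).not_dvd) (a.trans (index_dvd_of_le fun x hx y hy => ?_))
    have := inv_eq_of_mul_eq_one_right (hP _ (mul_mem hx hy))
    rwa [_root_.mul_inv_rev, inv_eq_of_mul_eq_one_right (hP _ hx), inv_eq_of_mul_eq_one_right (hP _ hy)] at this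
  have h3 : Nat.card (P : Subgroup B).normalizerMonoidHom.range ∣ 3 :=
    ((Nat.prime_two.coprime_iff_not_dvd.2 h2).symm).dvd_of_dvd_mul_left h1
  have : Fact (Nat.Prime 3) := ⟨Nat.prime_three⟩
  have := isCyclic_of_card_dvd_prime h3
  have := congrArg (fun φ : (P : Subgroup B).normalizerMonoidHom.range => ((φ.1 ⟨v, hv⟩ : (P : Subgroup B)) : B))
    (IsCyclic.commGroup.mul_comm ⟨_, ⟨g, hg⟩, rfl⟩ ⟨_, ⟨h, hh⟩, rfl⟩)
  exact this

variable {F : Type*} [Field F] [Fintype F]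

theorem elSyl_even [CharP F 2] (h4 : 4 ≤ Fintype.card F) (P : Sylow 2 PSL(2, F)) : ElSyl (P : Subgroup PSL(2, F)) := by
  have hg := Abel2.good_psl_even h4
  refine ⟨hg.elem P, hg.four_le P, ?_⟩
  have h2 : (2 : F) = 0 := by exact_mod_cast CharP.cast_eq_zero F 2
  obtain ⟨v, hv, v1, -⟩ := Abel2.exists_ne_ne (hg.four_le P) 1 1
  obtain ⟨b, hb, c⟩ := exists_isConj_uu_of_orderOf 2 (g := (pmEquiv h2).symm v)
    (by rw [MulEquiv.orderOf_eq, orderOf_two_of_mul_self (hg.elem P v hv) v1])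
  obtain ⟨k, hk⟩ := isConj_iff.1 c
  let e : SL(2, F) ≃* PSL(2, F) := (MulAut.conj k).trans (pmEquiv h2)
  have ev : e (uu b) = v := by simp [e, hk]
  have h3 : ∀ w, e w ∈ (P : Subgroup PSL(2, F)) → ∃ c, w = uu c := by
    intro w hw
    rw [← Abel2.even_cent_eq P hv v1, mem_centralizer_singleton_iff, ← ev, ← map_mul, ← map_mul,
      e.apply_eq_iff_eq] at hw
    have a1 := congrArg (· 0 0) hw
    have a2 := congrArg (· 0 1) hw
    have a3 := w.det_coe
    simp [uu, Matrix.mul_apply, Fin.sum_univ_two, hb] at a1 a2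
    rw [det_fin_two, a1] at a3
    have a4 : w 1 1 = w 0 0 := mul_left_cancel₀ hb (by linear_combination -a2)
    have a5 : w 0 0 = 1 := by
      rw [a4] at a3
      exact sub_eq_zero.1 (pow_eq_zero_iff two_ne_zero |>.1 (by linear_combination a3 + (1 - w 0 0) * h2))
    refine ⟨w 0 1, ?_⟩
    ext i j
    fin_cases i <;> fin_cases j <;> simp [uu, a1, a4, a5]
  have h5 : ∀ n, e n ∈ normalizer ((P : Subgroup PSL(2, F)) : Set PSL(2, F)) →
      ∀ c, n * uu c * n⁻¹ = uu (n 0 0 ^ 2 * c) := by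
    intro n hn c
    obtain ⟨d, hd⟩ := h3 (n * uu b * n⁻¹) (by
      rw [map_mul, map_mul, map_inv, ev]; exact conj_mem_of_mem_normalizer hn hv)
    have a1 := congrArg (· 1 1) (mul_inv_eq_iff_eq_mul.1 hd)
    have a3 := n.det_coe
    simp [uu, Matrix.mul_apply, Fin.sum_univ_two, hb] at a1
    rw [det_fin_two, a1] at a3
    rw [mul_inv_eq_iff_eq_mul]
    ext i j
    fin_cases i <;> fin_cases j <;> simp [uu, Matrix.mul_apply, Fin.sum_univ_two, a1]
    linear_combination (-n 0 0 * c) * a3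
  intro g hg h hh w hw
  obtain ⟨g, rfl⟩ := e.surjective g
  obtain ⟨h, rfl⟩ := e.surjective h
  obtain ⟨w, rfl⟩ := e.surjective w
  obtain ⟨c, rfl⟩ := h3 w hw
  simp only [← map_inv, ← map_mul, h5 g hg, h5 h hh, mul_left_comm]

/-- involutions of `PSL(2,F)` are conjugate; the Sylow 2-subgroups are dihedral or elementary -/
theorem psl_facts (h4 : 4 ≤ Fintype.card F) :
    (∀ a b : PSL(2, F), orderOf a = 2 → orderOf b = 2 → IsConj a b) ∧ ∀ P : Sylow 2 PSL(2, F),
      ElSyl (P : Subgroup PSL(2, F)) ∨ ∃ n r s, 4 ≤ n ∧ IsDih (P : Subgroup PSL(2, F)) n r s := by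
  by_cases h2 : ringChar F = 2
  · have := ringChar.of_eq h2
    exact ⟨fun a b => Abel2.even_isConj, fun P => .inl (elSyl_even h4 P)⟩
  obtain ⟨S, n, r, s, hn, hd⟩ := GHA.S2.dihSylow (F := F) (Nat.odd_iff.2 (FiniteField.odd_card_of_char_ne_two h2))
  have hs : IsSimpleGroup PSL(2, F) := CfsgLib.Classical.psl_fin_isSimpleGroup 2 le_rfl fun _ => h4
  refine ⟨fun a b => hd.isConj_of_no_index_two (no_two ?_), fun P => ?_⟩
  · refine (hs.eq_bot_or_eq_top_of_normal _ inferInstance).resolve_left fun e => Abel2.psl_not_comm h4 ?_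
    exact ⟨⟨fun a b => commutatorElement_eq_one_iff_mul_comm.1
      (mem_bot.1 (e ▸ commutator_mem_commutator (mem_top a) (mem_top b)))⟩⟩
  obtain ⟨g, rfl⟩ := MulAction.exists_smul_eq PSL(2, F) S P
  have hd' := isDih_cj hd g
  rw [← coe_smul_sylow] at hd'
  by_cases h : 4 ≤ n
  · exact .inr ⟨n, _, _, h, hd'⟩
  obtain ⟨k, hk⟩ := hd.exists_pow
  obtain rfl : n = 2 := by
    rcases k with _ | _ | k
    · omega
    · exact hk
    · have := Nat.one_le_two_pow (n := k)
      rw [pow_succ, pow_succ] at hk; omega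
  refine .inl (elSyl_of_four _ hd'.card fun v hv => ?_)
  obtain ⟨i, rfl | rfl⟩ := (hd'.mem v).1 hv
  · rw [← _root_.zpow_add, hd'.eq_one_iff]; exact ⟨i, by push_cast; ring⟩
  · exact hd'.rpows_sq i

end CfsgLib.TL2
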