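import Mathlib
import Cfsg.Agent.Lib.TL2.Dih1
import Cfsg.Agent.Lib.TL2.El
import Cfsg.Agent.Lib.TL2.PSL
import Cfsg.Agent.Lib.StrEmb.PSL2Recog

/-! # From `C(t)` to the three cases -/

set_option autoImplicit false
set_option linter.unusedSectionVars false

namespace CfsgLib.TL2

open Subgroup CfsgLib.Tech CfsgLib.DihSyl

variable {G : Type*} [Group G] [Finite G] {t : G} {B : Type*} [Group B] [Finite B] {D T K : Subgroup G}

theorem semi_of {F : Type*} [Field F] (f : F ≃+ F) (h : ∀ l, ∃ m, ∀ a, f (l * a) = m * f a) :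
    ∃ (c : F) (σ : F ≃+* F), ∀ a, f a = c * σ a := by
  have h1 : f 1 ≠ 0 := fun e => one_ne_zero (f.map_eq_zero_iff.1 e)
  refine ⟨f 1, { f.toEquiv.trans (Equiv.mulLeft₀ _ (inv_ne_zero h1)) with
    map_mul' := fun a b => ?_, map_add' := fun a b => ?_ }, fun a => (mul_inv_cancel_left₀ h1 _).symm⟩
  · obtain ⟨m, hm⟩ := h a
    have := hm 1
    rw [mul_one] at this
    show (f 1)⁻¹ * f (a * b) = (f 1)⁻¹ * f a * ((f 1)⁻¹ * f b)
    rw [hm, this]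
    field_simp
  · show (f 1)⁻¹ * f (a + b) = (f 1)⁻¹ * f a + (f 1)⁻¹ * f b
    rw [map_add, mul_add]

/-- the field structure on `D` -/
theorem Ct.exists_el (h : Ct t D T) (hD : ∀ v ∈ D, v * v = 1) (h4 : 4 ≤ Nat.card D) {J : Subgroup G}
    (hJ : J ≤ normalizer (D : Set G)) (hc : ∀ g ∈ J, Commute g t)
    (hn : ∀ g, Commute g t → g ∈ normalizer (D : Set G) → ∀ x ∈ J, g * x * g⁻¹ ∈ J)
    (htr : ∀ a ∈ D, ∀ b ∈ D, a ≠ 1 → b ≠ 1 → ∃ g ∈ J, g * a * g⁻¹ = b)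
    (hcm : ∀ g ∈ J, ∀ k ∈ J, ∀ v ∈ D, g * (k * v * k⁻¹) * g⁻¹ = k * (g * v * g⁻¹) * k⁻¹) :
    ∃ (F : Type) (_ : Field F) (_ : Fintype F) (ι : F → G), El t D T ι := by
  obtain ⟨s, hs, s1, -⟩ := Abel2.exists_ne_ne h4 1 1
  obtain ⟨F, _, _, c, c1, c2, c3⟩ := StrEmb.exists_field_of_regular (V := D) (D := J)
    (fun g => D.normalizerMonoidHom ⟨g, hJ g.2⟩) (fun g k v => Subtype.ext (hcm g g.2 k k.2 v v.2)) ⟨s, hs⟩
    (fun e => s1 (congrArg Subtype.val e)) fun v hv => by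
      obtain ⟨g, hg, e⟩ := htr s hs v v.2 s1 fun e => hv (Subtype.ext e)
      exact ⟨⟨g, hg⟩, Subtype.ext e⟩
  have c0 : c 1 = 0 := by simpa using c1 1 1
  have add : ∀ a b, c.symm (a + b) = c.symm a * c.symm b := fun a b => c.injective (by simp [c1])
  have act : ∀ g ∈ J, ∃ m, ∀ v : D, ∀ hv, c ⟨g * v * g⁻¹, hv⟩ = m * c v := fun g hg => ⟨_, fun v _ => c3 ⟨g, hg⟩ v⟩
  have scal : ∀ l : F, l ≠ 0 → ∃ g ∈ J, ∀ a, g * c.symm a * g⁻¹ = c.symm (l * a) := fun l hl => by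
    obtain ⟨g, hg, e⟩ := htr s hs _ (c.symm l).2 s1 fun e => hl (by
      rw [← c0, ← c.symm_apply_eq]; exact Subtype.ext e)
    refine ⟨g, hg, fun a => ?_⟩
    have := c3 ⟨g, hg⟩ (c.symm a)
    rw [show D.normalizerMonoidHom ⟨g, hJ hg⟩ ⟨s, hs⟩ = c.symm l from Subtype.ext e, c.apply_symm_apply,
      c.apply_symm_apply, ← c.eq_symm_apply] at this
    exact congrArg Subtype.val this
  refine ⟨F, inferInstance, inferInstance, fun a => c.symm a, h, fun a b => congrArg Subtype.val (add a b),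
    Subtype.val_injective.comp c.symm.injective,
    fun x => ⟨fun hx => ⟨c ⟨x, hx⟩, by simp⟩, fun ⟨a, e⟩ => e ▸ (c.symm a).2⟩, ?_, ?_, fun l hl => ?_, fun g g1 g2 => ?_⟩
  · rw [← one_add_one_eq_two, ← c2, ← c1, ← c0]
    exact congrArg c (Subtype.ext (hD s hs))
  · obtain ⟨w, hw, w1, ws, -⟩ := Abel2.exists_ne_ne h4 s s
    exact ⟨c ⟨w, hw⟩, fun e => w1 (congrArg Subtype.val (c.injective (e.trans c0.symm))),
      fun e => ws (congrArg Subtype.val (c.injective (e.trans c2.symm)))⟩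
  · obtain ⟨g, hg, e⟩ := scal l hl
    exact ⟨g, hc g hg, e⟩
  · let f : F ≃+ F :=
      { c.symm.trans ((D.normalizerMonoidHom ⟨g, g2⟩).toEquiv.trans c) with map_add' := fun a b => by simp [add, c1] }
    have hf : ∀ a, (c.symm (f a) : G) = g * c.symm a * g⁻¹ := fun a => by simp [f]
    obtain ⟨a, σ, e⟩ := semi_of f fun l => by
      by_cases hl : l = 0
      · exact ⟨0, fun a => by simp [hl]⟩
      obtain ⟨k, hk, e⟩ := scal l hl
      obtain ⟨m, hm⟩ := act _ (hn g g1 g2 k hk)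
      refine ⟨m, fun a => ?_⟩
      rw [← c.apply_symm_apply (f a), ← hm _ (conj_mem_of_mem_normalizer (hJ (hn g g1 g2 k hk)) (c.symm (f a)).2),
        ← c.symm_apply_eq]
      refine Subtype.ext ?_
      rw [hf, ← e]
      simp only [hf]
      group
    exact ⟨a, σ, fun b => by rw [← e, hf]⟩

/-- `K` is normal in `C(t)`, contains the 2-elements of `C(t)` and maps onto `Z2 × B` with a kernel of odd order -/
structure Hyp (t : G) (K : Subgroup G) (θ : K →* Multiplicative (ZMod 2) × B) : Prop where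
  ord : orderOf t = 2
  le : K ≤ centralizer {t}
  norm : centralizer {t} ≤ normalizer (K : Set G)
  two : ∀ x k, Commute x t → x ^ 2 ^ k = 1 → x ∈ K
  surj : Function.Surjective θ
  odd : ∀ x, θ x = 1 → Odd (orderOf x)
  cen : ∀ z : B, (∀ y, y * z = z * y) → z = 1
  fus : ∀ a b : B, orderOf a = 2 → orderOf b = 2 → IsConj a b
  syl : ∀ P : Sylow 2 B, ElSyl (P : Subgroup B) ∨ ∃ n r s, 4 ≤ n ∧ IsDih (P : Subgroup B) n r s

/-- the Sylow 2-subgroups of `G` are elementary abelian of order at least 8 -/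
theorem Hyp.sylow {θ : K →* Multiplicative (ZMod 2) × B} (h : Hyp t K θ) (hG : _root_.commutator G = ⊤)
    (S : Sylow 2 G) : (∀ x ∈ (S : Subgroup G), x * x = 1) ∧ 8 ≤ Nat.card (S : Subgroup G) := by
  obtain ⟨T, hT⟩ := exists_isSylowIn 2 (centralizer {t})
  have cm : ∀ {x}, x ∈ K → Commute x t := fun hx => mem_centralizer_singleton_iff.1 (h.le hx)
  have TK : T ≤ K := fun x hx => by
    obtain ⟨k, hk⟩ := isPGroup_iff_mem.1 hT.pgroup x hx
    exact h.two x k (mem_centralizer_singleton_iff.1 (hT.le hx)) hk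
  have tt := mul_self_of_orderOf_two h.ord
  have tT : t ∈ T := hT.le_of_le_normalizer (isPGroup_two_zpowers tt)
    (zpowers_le.2 (mem_centralizer_singleton_iff.2 rfl)) (fun x hx => mem_normalizer_of_forall fun y hy => by
      obtain ⟨i, rfl⟩ := mem_zpowers_iff.1 hy
      rw [((show Commute x t from mem_centralizer_singleton_iff.1 hx).zpow_right i).eq, mul_inv_cancel_right]
      exact hy) (mem_zpowers t)
  have inj : ∀ x (hx : x ∈ T), θ ⟨x, TK hx⟩ = 1 → x = 1 := fun x hx e => by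
    obtain ⟨k, hk⟩ := isPGroup_iff_mem.1 hT.pgroup x hx
    exact eq_one_of_odd_of_two_pow (h.odd _ e) (congrArg Subtype.val (pow_orderOf_eq_one (⟨x, TK hx⟩ : K))) hk
  have t2 : (θ ⟨t, TK tT⟩).2 = 1 := h.cen _ fun y => by
    obtain ⟨g, hg⟩ := h.surj (1, y)
    have := congrArg (fun x => (θ x).2) (show g * ⟨t, TK tT⟩ = ⟨t, TK tT⟩ * g from Subtype.ext (cm g.2))
    simpa [hg] using this
  have t1 : (θ ⟨t, TK tT⟩).1 ≠ 1 := fun e => ne_one_of_orderOf_two h.ord (inj t tT (Prod.ext e t2))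
  obtain ⟨D, mD⟩ : ∃ D : Subgroup G, ∀ x, x ∈ D ↔ ∃ hx : x ∈ T, (θ ⟨x, TK hx⟩).1 = 1 :=
    ⟨T ⊓ ((MonoidHom.fst _ _).comp θ).ker.map K.subtype, fun x =>
      ⟨fun ⟨h1, _, h2, e⟩ => ⟨h1, by subst e; exact h2⟩, fun ⟨h1, h2⟩ => ⟨h1, ⟨x, TK h1⟩, h2, rfl⟩⟩⟩
  have DT : D ≤ T := fun x hx => ((mD x).1 hx).1
  let ψ : K →* B := (MonoidHom.snd _ _).comp θ
  let j : D →* B := ψ.comp (inclusion (DT.trans TK))
  have jinj : Function.Injective j := (injective_iff_map_eq_one j).2 fun x e =>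
    Subtype.ext (inj x (DT x.2) (Prod.ext ((mD x).1 x.2).2 e))
  have ψs : Function.Surjective ψ := fun y => (h.surj (1, y)).imp fun g hg => congrArg Prod.snd hg
  have mem : ∀ x, x ∈ T ↔ x ∈ D ∨ t * x ∈ D := fun x => ⟨fun hx => by
      rw [mD, mD]
      refine ((show ∀ a b : Multiplicative (ZMod 2), a ≠ 1 → b = 1 ∨ a * b = 1 by decide) _ (θ ⟨x, TK hx⟩).1 t1).imp
        (fun e => ⟨hx, e⟩) fun e => ⟨mul_mem tT hx, ?_⟩
      rw [← e, ← Prod.fst_mul, ← map_mul]; rfl,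
    fun hx => hx.elim (@DT x) fun a => (mul_mem_cancel_left tT).1 (DT a)⟩
  have fus : ∀ a ∈ D, ∀ b ∈ D, a ≠ 1 → b ≠ 1 → a * a = 1 → b * b = 1 → ∃ g ∈ K, g * a * g⁻¹ = b := by
    intro a ha b hb a1 b1 aa bb
    have o : ∀ x (hx : x ∈ D), x ≠ 1 → x * x = 1 → orderOf (j ⟨x, hx⟩) = 2 := fun x hx x1 xx => by
      rw [orderOf_injective j jinj, ← orderOf_coe, orderOf_two_of_mul_self xx x1]
    obtain ⟨y, hy⟩ := isConj_iff.1 (h.fus _ _ (o a ha a1 aa) (o b hb b1 bb))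
    obtain ⟨g, hg⟩ := h.surj (1, y)
    have aK := TK (DT ha)
    have bK := TK (DT hb)
    have e : θ (⟨b, bK⟩ * (g * ⟨a, aK⟩ * g⁻¹)) = 1 := by
      rw [← map_one θ, show (1 : K) = ⟨b, bK⟩ * ⟨b, bK⟩ from Subtype.ext bb.symm, map_mul, map_mul, map_mul, map_mul,
        map_inv, hg]
      congr 1
      exact Prod.ext (by simp [((mD a).1 ha).2, ((mD b).1 hb).2]) hy
    obtain ⟨k, hk⟩ := exists_pow_conj_of_odd (x := (⟨b, bK⟩ : K)) (Subtype.ext bb)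
      (sq_of_isConj (isConj_cj g ⟨a, aK⟩) (Subtype.ext aa)) (h.odd _ e)
    refine ⟨_, ((⟨b, bK⟩ * (g * ⟨a, aK⟩ * g⁻¹)) ^ k * g).2, Eq.trans ?_ (congrArg Subtype.val hk)⟩
    push_cast
    group
  have k : Ct t D T := ⟨ne_one_of_orderOf_two h.ord, tt, fun a => t1 ((mD t).1 a).2, mem, hT,
    fun a ha b hb a1 b1 aa bb => (fus a ha b hb a1 b1 aa bb).imp fun g hg => ⟨cm hg.1, hg.2⟩⟩
  have hK := hT.of_le TK h.le
  obtain ⟨P, hP⟩ : ∃ P : Sylow 2 B, (P : Subgroup B) = j.range := by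
    refine ⟨hK.toSylow.mapSurjective ψs, le_antisymm ?_ ?_⟩
    · rintro _ ⟨x, hx, rfl⟩
      rcases (mem x).1 hx with a | a
      · exact ⟨⟨x, a⟩, rfl⟩
      · refine ⟨⟨_, a⟩, ?_⟩
        show ψ (⟨t, TK tT⟩ * x) = ψ x
        rw [map_mul, show ψ ⟨t, TK tT⟩ = 1 from t2, one_mul]
    · rintro _ ⟨x, rfl⟩
      exact ⟨⟨x, TK (DT x.2)⟩, DT x.2, rfl⟩
  have mP : ∀ x, j x ∈ (P : Subgroup B) := fun x => hP ▸ ⟨x, rfl⟩
  rcases h.syl P with ⟨e1, e2, e3⟩ | ⟨n, r, s, hn, hd⟩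
  swap
  · obtain ⟨r, rfl⟩ := hP.le hd.r_mem
    obtain ⟨s, rfl⟩ := hP.le hd.s_mem
    refine (dih_false hG k (r := r) (s := s) ⟨?_, congrArg Subtype.val (jinj (a₁ := s * s) (a₂ := 1) (by simpa using hd.ss)),
      congrArg Subtype.val (jinj (a₁ := s * r * s⁻¹) (a₂ := r⁻¹) (by simpa using hd.conj)), fun ⟨i, e⟩ => hd.notMem
        ⟨i, by rw [← show r ^ i = s from Subtype.ext e, map_zpow]⟩, fun g => ⟨fun hg => ?_, ?_⟩⟩ hn).elim
    · rw [orderOf_coe, ← orderOf_injective j jinj, hd.ord]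
    · obtain ⟨i, e⟩ := (hd.mem _).1 (mP ⟨g, hg⟩)
      rw [← map_zpow, ← map_mul] at e
      exact ⟨i, e.imp (fun e => congrArg Subtype.val (jinj e)) fun e => congrArg Subtype.val (jinj e)⟩
    · rintro ⟨i, rfl | rfl⟩
      · exact zpow_mem r.2 i
      · exact mul_mem (zpow_mem r.2 i) s.2
  have hD : ∀ v ∈ D, v * v = 1 := fun v hv =>
    congrArg Subtype.val (jinj (a₁ := ⟨v, hv⟩ * ⟨v, hv⟩) (a₂ := 1) (by rw [map_mul, map_one, e1 _ (mP ⟨v, hv⟩)]))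
  have h4 : 4 ≤ Nat.card D := by
    rwa [hP, ← Nat.card_congr (MonoidHom.ofInjective jinj).toEquiv] at e2
  have sqT : ∀ x ∈ T, x * x = 1 := fun x hx => ((mem x).1 hx).elim (hD x) fun a => by
    have := hD _ a
    rwa [mul_assoc, ← mul_assoc x, (k.comm hx).eq, mul_assoc, k.tt] at this
  have jc : ∀ g (hg : g ∈ K) (v : D) hv, j ⟨g * v * g⁻¹, hv⟩ = ψ ⟨g, hg⟩ * j v * (ψ ⟨g, hg⟩)⁻¹ := fun g hg v hv => by
    rw [← map_inv]; exact (map_mul ψ (⟨g, hg⟩ * ⟨v, TK (DT v.2)⟩) ⟨g, hg⟩⁻¹).trans (by rw [map_mul])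
  have jn : ∀ g (hg : g ∈ K ⊓ normalizer (D : Set G)), ψ ⟨g, hg.1⟩ ∈ normalizer ((P : Subgroup B) : Set B) :=
    fun g hg => mem_normalizer_of_forall fun y hy => by
      obtain ⟨v, rfl⟩ := hP.le hy
      exact jc g hg.1 v (conj_mem_of_mem_normalizer hg.2 v.2) ▸ mP _
  obtain ⟨F, _, _, ι, el⟩ := k.exists_el hD h4 (J := K ⊓ normalizer (D : Set G)) inf_le_right (fun g hg => cm hg.1)
    (fun g g1 g2 x hx => ⟨conj_mem_of_mem_normalizer (h.norm (mem_centralizer_singleton_iff.2 g1)) hx.1,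
      (normalizer (D : Set G)).mul_mem ((normalizer (D : Set G)).mul_mem g2 hx.2) (inv_mem g2)⟩)
    (fun a ha b hb a1 b1 => by
      obtain ⟨g, hg, e⟩ := fus a ha b hb a1 b1 (hD a ha) (hD b hb)
      have ab : ∀ x ∈ T, ∀ y ∈ T, x * y = y * x := fun x hx y hy => by
        have := inv_eq_of_mul_eq_one_right (sqT _ (mul_mem hx hy))
        rw [mul_inv_rev, inv_eq_of_mul_eq_one_right (sqT x hx), inv_eq_of_mul_eq_one_right (sqT y hy)] at this
        exact this.symm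
      obtain ⟨c, hc, e'⟩ := ((hK.cj_of_mem hg).of_le (K := K ⊓ centralizer {b}) (le_inf (hK.cj_of_mem hg).le
        (cj_le_iff.2 fun x hx => mem_centralizer_singleton_iff.2 (by rw [← e, conj_mul, conj_mul, ab x hx a (DT ha)])))
        inf_le_left).exists_cj_eq (hK.of_le (le_inf TK fun x hx => mem_centralizer_singleton_iff.2 (ab x hx b (DT hb)))
          inf_le_left)
      have cK := K.mul_mem hc.1 hg
      refine ⟨c * g, ⟨cK, mem_normalizer_of_forall fun x hx => (mD _).2 ⟨?_, ?_⟩⟩, ?_⟩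
      · rw [← e', ← cj_mul]; exact conj_mem_cj.2 (DT hx)
      · show (θ (⟨_, cK⟩ * ⟨x, TK (DT hx)⟩ * ⟨_, cK⟩⁻¹)).1 = 1
        rw [map_mul, map_mul, map_inv, Prod.fst_mul, Prod.fst_mul, ((mD x).1 hx).2, mul_one, Prod.fst_inv, mul_inv_cancel]
      · calc _ = c * (g * a * g⁻¹) * c⁻¹ := by group
          _ = b := by rw [e, mem_centralizer_singleton_iff.1 hc.2, mul_inv_cancel_right])
    fun g hg l hl v hv => by
      have a1 := conj_mem_of_mem_normalizer hl.2 hv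
      have a2 := conj_mem_of_mem_normalizer hg.2 hv
      refine congrArg Subtype.val (jinj (a₁ := ⟨_, conj_mem_of_mem_normalizer hg.2 a1⟩)
        (a₂ := ⟨_, conj_mem_of_mem_normalizer hl.2 a2⟩) ?_)
      rw [jc g hg.1 ⟨_, a1⟩, jc l hl.1 ⟨_, a2⟩, jc l hl.1 ⟨v, hv⟩, jc g hg.1 ⟨v, hv⟩]
      exact e3 _ (jn g hg) _ (jn l hl) _ (mP _)
  obtain ⟨g, -, e⟩ := (el.syl_top hG).exists_cj_eq (IsSylowIn.of_sylow_top S)
  rw [← e, card_cj, k.card]
  exact ⟨fun x hx => sq_of_isConj (isConj_iff.2 ⟨g, by group⟩) (sqT _ (mem_cj.1 hx)), by omega⟩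

end CfsgLib.TL2
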